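import Groth.Agent.ResProp.EF.K341.GrIsBC

/-!
# Maps of data from a basis; the differential of a square
-/

set_option autoImplicit false
set_option linter.style.haveILetI false

open MvPolynomial

namespace Groth.Agent.ResProp.EF.K341

open Groth.Agent.ResProp.EF.K863 K784.BC

section om

variable {R : Type*} [CommRing R] {R₁ : Type*} [CommRing R₁] {R₂ : Type*} [CommRing R₂]
  {D : Type*} [CommRing D] [Algebra R D] {D₁ : Type*} [CommRing D₁] [Algebra R₁ D₁]
  {D₂ : Type*} [CommRing D₂] [Algebra R₂ D₂]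

/-- A commutative square of rings. -/
structure Sq (R : Type*) [CommRing R] {R₁ : Type*} [CommRing R₁] (D : Type*) [CommRing D] [Algebra R D] {D₁ : Type*}
    [CommRing D₁] [Algebra R₁ D₁] (x : R →+* R₁) (η : D →+* D₁) : Prop where
  alg : ∀ r, η (algebraMap R D r) = algebraMap R₁ D₁ (x r)

theorem Sq.id : Sq R D (RingHom.id R) (RingHom.id D) := ⟨fun _ => rfl⟩

theorem Sq.comp {x : R →+* R₁} {η : D →+* D₁} {y : R₁ →+* R₂} {θ : D₁ →+* D₂} (g : Sq R₁ D₁ y θ) (h : Sq R D x η) :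
    Sq R D (y.comp x) (θ.comp η) := ⟨fun r => by rw [RingHom.comp_apply, h.alg, g.alg]; rfl⟩

variable {x : R →+* R₁} {η : D →+* D₁}

theorem exists_om (sq : Sq R D x η) : ∃ κ : Ω[D⁄R] →+ Ω[D₁⁄R₁], (∀ (a : D) (ω : Ω[D⁄R]), κ (a • ω) = η a • κ ω) ∧
    ∀ a : D, κ (KaehlerDifferential.D R D a) = KaehlerDifferential.D R₁ D₁ (η a) := by
  letI m1 : Module D Ω[D₁⁄R₁] := Module.compHom _ η
  letI m2 : Module R Ω[D₁⁄R₁] := Module.compHom _ x
  have h1 : ∀ (a : D) (ω : Ω[D₁⁄R₁]), a • ω = η a • ω := fun a ω => rfl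
  have h2 : ∀ (r : R) (ω : Ω[D₁⁄R₁]), r • ω = x r • ω := fun a ω => rfl
  haveI : IsScalarTower R D Ω[D₁⁄R₁] := ⟨fun r a ω => by
    rw [h1, h1, h2, Algebra.smul_def, map_mul, sq.alg, mul_smul, algebraMap_smul]⟩
  let δ : Derivation R D Ω[D₁⁄R₁] := Derivation.mk'
    { toFun := fun a => KaehlerDifferential.D R₁ D₁ (η a)
      map_add' := fun a b => by rw [map_add, map_add]
      map_smul' := fun r a => by
        rw [Algebra.smul_def, map_mul, sq.alg, ← Algebra.smul_def, Derivation.map_smul, RingHom.id_apply, h2] }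
    (fun a b => by
      simp only [LinearMap.coe_mk, AddHom.coe_mk, h1]
      rw [map_mul, Derivation.leibniz])
  refine ⟨δ.liftKaehlerDifferential.toAddMonoidHom, fun a ω => ?_, fun a => ?_⟩
  · change δ.liftKaehlerDifferential (a • ω) = _
    rw [map_smul]
    rfl
  · exact Derivation.liftKaehlerDifferential_comp_D δ a

/-- The map of differentials of a square. -/
noncomputable def om (sq : Sq R D x η) : Ω[D⁄R] →+ Ω[D₁⁄R₁] := (exists_om sq).choose

theorem om_smul (sq : Sq R D x η) (a : D) (ω : Ω[D⁄R]) : om sq (a • ω) = η a • om sq ω := (exists_om sq).choose_spec.1 a ω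

@[simp] theorem om_D (sq : Sq R D x η) (a : D) : om sq (KaehlerDifferential.D R D a) = KaehlerDifferential.D R₁ D₁ (η a) :=
  (exists_om sq).choose_spec.2 a

theorem om_unique (sq : Sq R D x η) {σ : Ω[D⁄R] →+ Ω[D₁⁄R₁]} (h1 : ∀ (a : D) (ω : Ω[D⁄R]), σ (a • ω) = η a • σ ω)
    (h2 : ∀ a : D, σ (KaehlerDifferential.D R D a) = KaehlerDifferential.D R₁ D₁ (η a)) : σ = om sq := by
  ext ω
  have hω : ω ∈ Submodule.span D (Set.range (KaehlerDifferential.D R D)) := by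
    rw [KaehlerDifferential.span_range_derivation]; trivial
  induction hω using Submodule.span_induction with
  | mem y hy =>
    obtain ⟨a, rfl⟩ := hy
    rw [h2, om_D]
  | zero => rw [map_zero, map_zero]
  | add y z _ _ hy hz => rw [map_add, map_add, hy, hz]
  | smul a y _ hy => rw [h1, om_smul, hy]

theorem om_comp {y : R₁ →+* R₂} {θ : D₁ →+* D₂} (g : Sq R₁ D₁ y θ) (h : Sq R D x η) (gh : Sq R D (y.comp x) (θ.comp η))
    (ω : Ω[D⁄R]) : om gh ω = om g (om h ω) := by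
  have := om_unique gh (σ := (om g).comp (om h)) (fun a ω => by
    change om g (om h (a • ω)) = _
    rw [om_smul, om_smul]; rfl) (fun a => by
    change om g (om h _) = _
    rw [om_D, om_D]; rfl)
  rw [← this]; rfl

theorem om_congr {x' : R →+* R₁} {η' : D →+* D₁} (sq : Sq R D x η) (sq' : Sq R D x' η') (h2 : ∀ d, η d = η' d)
    (ω : Ω[D⁄R]) : om sq ω = om sq' ω := by
  have := om_unique sq' (σ := om sq) (fun a ω => by rw [om_smul, h2]) (fun a => by rw [om_D, h2])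
  rw [this]

theorem om_id (sq : Sq R D (RingHom.id R) (RingHom.id D)) (ω : Ω[D⁄R]) : om sq ω = ω := by
  have := om_unique sq (σ := AddMonoidHom.id _) (fun a ω => rfl) (fun a => rfl)
  rw [← this]; rfl

end om

section basis

variable {R : Type*} [CommRing R] {R₁ : Type*} [CommRing R₁] {R₂ : Type*} [CommRing R₂]
  {D : Type*} [CommRing D] [Algebra R D] {V : Type*} [AddCommGroup V] [Module D V] {ρ : V →ₗ[D] Ω[D⁄R]}
  {D₁ : Type*} [CommRing D₁] [Algebra R₁ D₁] {V₁ : Type*} [AddCommGroup V₁] [Module D₁ V₁]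
  {ρ₁ : V₁ →ₗ[D₁] Ω[D₁⁄R₁]}
  {D₂ : Type*} [CommRing D₂] [Algebra R₂ D₂] {V₂ : Type*} [AddCommGroup V₂] [Module D₂ V₂]
  {ρ₂ : V₂ →ₗ[D₂] Ω[D₂⁄R₂]}
  {ι : Type*} [Fintype ι]

/-- the square of a map of data -/
theorem SHom.sq {x : R →+* R₁} (h : SHom ρ ρ₁ x) : Sq R D x h.η := ⟨h.η_alg⟩

/-- A map of data from its values on a basis. -/
noncomputable def SHom.ofBasis {x : R →+* R₁} {η : D →+* D₁} (sq : Sq R D x η) (b : Module.Basis ι D V) (v : ι → V₁)
    (h : ∀ i, ρ₁ (v i) = om sq (ρ (b i))) : SHom ρ ρ₁ x where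
  η := η
  η_alg := sq.alg
  ηV :=
    { toFun := fun w => ∑ i, η (b.repr w i) • v i
      map_zero' := by simp
      map_add' := fun w w' => by simp [add_smul, Finset.sum_add_distrib] }
  map_smul d w := by
    simp [Finset.smul_sum, mul_smul]
  compat w y hw := by
    change ρ₁ (∑ i, η (b.repr w i) • v i) = _
    rw [map_sum]
    have e : ∀ i, ρ₁ (η (b.repr w i) • v i) = om sq (ρ (b.repr w i • b i)) := fun i => by
      rw [ρ₁.map_smul, ρ.map_smul, om_smul, h]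
    rw [Finset.sum_congr rfl fun i _ => e i, ← map_sum, ← map_sum, b.sum_repr, hw, om_D]

@[simp] theorem SHom.ofBasis_η {x : R →+* R₁} {η : D →+* D₁} (sq : Sq R D x η) (b : Module.Basis ι D V) (v : ι → V₁)
    (h : ∀ i, ρ₁ (v i) = om sq (ρ (b i))) : (SHom.ofBasis sq b v h).η = η := rfl

@[simp] theorem SHom.ofBasis_ηV {x : R →+* R₁} {η : D →+* D₁} (sq : Sq R D x η) (b : Module.Basis ι D V) (v : ι → V₁)
    (h : ∀ i, ρ₁ (v i) = om sq (ρ (b i))) (i : ι) : (SHom.ofBasis sq b v h).ηV (b i) = v i := by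
  classical
  change ∑ j, η (b.repr (b i) j) • v j = v i
  rw [Finset.sum_eq_single i]
  · simp
  · intro j _ hj
    rw [b.repr_self, Finsupp.single_eq_of_ne hj, map_zero, zero_smul]
  · intro hi; exact absurd (Finset.mem_univ i) hi

omit [Fintype ι] in
/-- Two maps of data which agree on `D` and on a basis agree on `V`. -/
theorem SHom.ηV_eq_of_basis {x x' : R →+* R₁} (h : SHom ρ ρ₁ x) (h' : SHom ρ ρ₁ x') (b : Module.Basis ι D V)
    (e1 : ∀ d, h.η d = h'.η d) (e2 : ∀ i, h.ηV (b i) = h'.ηV (b i)) (v : V) : h.ηV v = h'.ηV v := by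
  have hv : v ∈ Submodule.span D (Set.range b) := by rw [b.span_eq]; trivial
  induction hv using Submodule.span_induction with
  | mem y hy =>
    obtain ⟨i, rfl⟩ := hy
    exact e2 i
  | zero => rw [map_zero, map_zero]
  | add y z _ _ hy hz => rw [map_add, map_add, hy, hz]
  | smul a y _ hy => rw [h.map_smul, h'.map_smul, e1, hy]

/-- the graded maps of two maps of data which agree on `D` and on a basis -/
theorem SHom.gr_congr_basis {x x' : R →+* R₁} (h : SHom ρ ρ₁ x) (h' : SHom ρ ρ₁ x') (hx : x = x')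
    (b : Module.Basis ι D V)
    (e1 : ∀ d, h.η d = h'.η d) (e2 : ∀ i, h.ηV (b i) = h'.ηV (b i)) (m : Model R D V ρ) (m₁ : Model R₁ D₁ V₁ ρ₁) (n : ℕ)
    (a : m.gr n) : h.gr m m₁ n a = h'.gr m m₁ n a :=
  SHom.gr_congr hx h h' e1 (SHom.ηV_eq_of_basis h h' b e1 e2) n a

/-- if a map of data sends a basis to a basis then `ηV` is a base change -/
theorem isBC_of_basis {η : D →+* D₁} {f : V →+ V₁} (hf : ∀ (d : D) (v : V), f (d • v) = η d • f v)
    (b : Module.Basis ι D V) (b₁ : Module.Basis ι D₁ V₁) (h : ∀ i, f (b i) = b₁ i) : IsBC η f := by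
  letI := η.toAlgebra
  have hB : IsBaseChange D₁ (TensorProduct.mk D D₁ V 1) := TensorProduct.isBaseChange D V D₁
  let B : Module.Basis ι D₁ (TensorProduct D D₁ V) := hB.basis b
  have hBi : ∀ i, B i = (1 : D₁) ⊗ₜ[D] b i := fun i => hB.basis_apply b i
  have h1 : IsBC η (TensorProduct.mk D D₁ V 1).toAddMonoidHom := isBC_mk η V
  obtain ⟨g, hg, -⟩ := h1.existsUnique_lift f hf
  have h2 : Function.Bijective g := by
    have : g = (B.equiv b₁ (Equiv.refl ι)).toLinearMap := by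
      refine B.ext fun i => ?_
      rw [LinearEquiv.coe_coe, Module.Basis.equiv_apply, Equiv.refl_apply, hBi]
      exact (hg (b i)).trans (h i)
    rw [this]
    exact (B.equiv b₁ (Equiv.refl ι)).bijective
  exact IsBC.of_equiv h1 (LinearEquiv.ofBijective g h2) hg

end basis

section model

variable {R : Type*} [CommRing R] {R₁ : Type*} [CommRing R₁]
  {D : Type*} [CommRing D] [Algebra R D] {V : Type*} [AddCommGroup V] [Module D V] {ρ : V →ₗ[D] Ω[D⁄R]}
  {D₁ : Type*} [CommRing D₁] [Algebra R₁ D₁] {V₁ : Type*} [AddCommGroup V₁] [Module D₁ V₁]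
  {ρ₁ : V₁ →ₗ[D₁] Ω[D₁⁄R₁]} {x : R →+* R₁}

/-- Models exist after base change. -/
theorem SHom.exists_model (h : SHom ρ ρ₁ x) (hD : IsBC x h.η.toAddMonoidHom) (hV : IsBC h.η h.ηV)
    (m : Model R D V ρ) : Nonempty (Model R₁ D₁ V₁ ρ₁) := by
  letI := x.toAlgebra
  letI : Algebra R D₁ := (h.η.comp (algebraMap R D)).toAlgebra
  haveI : IsScalarTower R R₁ D₁ := .of_algebraMap_eq fun r => h.η_alg r
  let h' : D →ₐ[R] D₁ := { h.η with commutes' := fun r => rfl }
  have hb : IsBaseChange R₁ h'.toLinearMap := (isBC_iff h'.toLinearMap).1 hD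
  letI i1 : Algebra D D₁ := h.η.toAlgebra
  letI i2 : Module D V₁ := Module.compHom V₁ h.η
  haveI : IsScalarTower D D₁ V₁ := ⟨fun a b n => mul_smul (h.η a) b n⟩
  let j : V →ₗ[D] V₁ := { h.ηV with map_smul' := h.map_smul }
  have hj : IsBaseChange D₁ j := (isBC_iff j).1 hV
  let b₁ : Module.Basis (Fin m.M) D₁ V₁ := hj.basis m.b
  have hb₁ : ∀ i, b₁ i = h.ηV (m.b i) := fun i => hj.basis_apply m.b i
  exact ⟨m.baseChange h' hb b₁ fun i => by
    rw [hb₁]; exact h.compat _ _ (m.hb i)⟩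

end model

/-! ### data given by a finite family of differentials; maps in matrix form -/

section MHom

variable {R : Type*} [CommRing R] {R₁ : Type*} [CommRing R₁] {R₂ : Type*} [CommRing R₂]
  {D : Type*} [CommRing D] [Algebra R D] {D₁ : Type*} [CommRing D₁] [Algebra R₁ D₁]
  {D₂ : Type*} [CommRing D₂] [Algebra R₂ D₂] {ι : Type*} [Fintype ι] [DecidableEq ι]

/-- the map `(ι → D) → Ω` of a family of differentials -/
noncomputable def rhoI (ω : ι → Ω[D⁄R]) : (ι → D) →ₗ[D] Ω[D⁄R] := Fintype.linearCombination D ω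

omit [DecidableEq ι] in
theorem rhoI_apply (ω : ι → Ω[D⁄R]) (v : ι → D) : rhoI ω v = ∑ i, v i • ω i := rfl

@[simp] theorem rhoI_single (ω : ι → Ω[D⁄R]) (i : ι) : rhoI ω (Pi.single i 1) = ω i := by
  rw [rhoI, Fintype.linearCombination_apply_single, one_smul]

theorem rhoI_basis (ω : ι → Ω[D⁄R]) (i : ι) : rhoI ω (Pi.basisFun D ι i) = ω i := by
  rw [Pi.basisFun_apply, rhoI_single]

/-- A map of data in matrix form: a square `(x, η)` and a matrix `N` with `η_* ω i = ∑ j, N j i • ω₁ j`. -/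
structure MHom (ω : ι → Ω[D⁄R]) (ω₁ : ι → Ω[D₁⁄R₁]) (x : R →+* R₁) (η : D →+* D₁) (N : Matrix ι ι D₁) : Prop where
  sq : Sq R D x η
  rel : ∀ i, om sq (ω i) = ∑ j, N j i • ω₁ j

namespace MHom

variable {ω : ι → Ω[D⁄R]} {ω₁ : ι → Ω[D₁⁄R₁]} {ω₂ : ι → Ω[D₂⁄R₂]} {x : R →+* R₁} {η : D →+* D₁} {N : Matrix ι ι D₁}
  {y : R₁ →+* R₂} {θ : D₁ →+* D₂} {P : Matrix ι ι D₂}

/-- the map of data -/
noncomputable def toSHom (h : MHom ω ω₁ x η N) : SHom (rhoI ω) (rhoI ω₁) x :=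
  SHom.ofBasis h.sq (Pi.basisFun D ι) (fun i j => N j i) fun i => by rw [rhoI_apply, rhoI_basis, h.rel]

@[simp] theorem toSHom_η (h : MHom ω ω₁ x η N) : h.toSHom.η = η := rfl

@[simp] theorem toSHom_ηV (h : MHom ω ω₁ x η N) (i : ι) : h.toSHom.ηV (Pi.basisFun D ι i) = fun j => N j i :=
  SHom.ofBasis_ηV _ _ _ _ i

theorem toSHom_ηV_apply (h : MHom ω ω₁ x η N) (v : ι → D) (j : ι) : h.toSHom.ηV v j = ∑ i, η (v i) * N j i := by
  change (∑ i, η ((Pi.basisFun D ι).repr v i) • (fun j => N j i)) j = _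
  rw [Finset.sum_apply]
  rfl

theorem id (ω : ι → Ω[D⁄R]) : MHom ω ω (RingHom.id R) (RingHom.id D) 1 where
  sq := Sq.id
  rel i := by
    rw [om_id, Finset.sum_eq_single i]
    · rw [Matrix.one_apply_eq, one_smul]
    · intro j _ hj
      rw [Matrix.one_apply_ne hj, zero_smul]
    · intro hi; exact absurd (Finset.mem_univ i) hi

theorem comp (g : MHom ω₁ ω₂ y θ P) (h : MHom ω ω₁ x η N) : MHom ω ω₂ (y.comp x) (θ.comp η) (P * N.map θ) where
  sq := g.sq.comp h.sq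
  rel i := by
    rw [om_comp g.sq h.sq, h.rel, map_sum]
    have e : ∀ j, om g.sq (N j i • ω₁ j) = ∑ l, (θ (N j i) * P l j) • ω₂ l := fun j => by
      rw [om_smul, g.rel, Finset.smul_sum]
      exact Finset.sum_congr rfl fun l _ => by rw [mul_smul]
    rw [Finset.sum_congr rfl fun j _ => e j, Finset.sum_comm]
    refine Finset.sum_congr rfl fun l _ => ?_
    rw [← Finset.sum_smul, Matrix.mul_apply]
    congr 1
    exact Finset.sum_congr rfl fun j _ => by rw [Matrix.map_apply, mul_comm]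

/-- the map on graded pieces -/
noncomputable def gr (h : MHom ω ω₁ x η N) (m : Model R D (ι → D) (rhoI ω)) (m₁ : Model R₁ D₁ (ι → D₁) (rhoI ω₁)) (n : ℕ) :
    m.gr n →+ m₁.gr n := h.toSHom.gr m m₁ n

theorem gr_smul (h : MHom ω ω₁ x η N) (m : Model R D (ι → D) (rhoI ω)) (m₁ : Model R₁ D₁ (ι → D₁) (rhoI ω₁)) (n : ℕ)
    (d : D) (a : m.gr n) : h.gr m m₁ n (d • a) = η d • h.gr m m₁ n a := SHom.gr_smul h.toSHom n d a

theorem gr_rsmul (h : MHom ω ω₁ x η N) (m : Model R D (ι → D) (rhoI ω)) (m₁ : Model R₁ D₁ (ι → D₁) (rhoI ω₁)) (n : ℕ)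
    (r : R) (a : m.gr n) : h.gr m m₁ n (r • a) = x r • h.gr m m₁ n a := SHom.gr_rsmul h.toSHom m m₁ n r a

/-- the map on graded pieces only depends on `x`, `η` and the matrix -/
theorem gr_congr {x' : R →+* R₁} {η' : D →+* D₁} {N' : Matrix ι ι D₁} (h : MHom ω ω₁ x η N) (h' : MHom ω ω₁ x' η' N')
    (hx : x = x') (e1 : ∀ d, η d = η' d) (e2 : ∀ i j, N i j = N' i j) (m : Model R D (ι → D) (rhoI ω))
    (m₁ : Model R₁ D₁ (ι → D₁) (rhoI ω₁)) (n : ℕ) (a : m.gr n) : h.gr m m₁ n a = h'.gr m m₁ n a :=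
  SHom.gr_congr hx h.toSHom h'.toSHom e1 (fun v => funext fun j => by
    rw [toSHom_ηV_apply, toSHom_ηV_apply]
    exact Finset.sum_congr rfl fun i _ => by rw [e1, e2]) n a

/-- functoriality -/
theorem gr_comp (g : MHom ω₁ ω₂ y θ P) (h : MHom ω ω₁ x η N) {z : R →+* R₂} {ζ : D →+* D₂} {Q : Matrix ι ι D₂}
    (f : MHom ω ω₂ z ζ Q) (hz : z = y.comp x) (hζ : ∀ d, ζ d = θ (η d)) (hQ : ∀ i j, Q i j = ∑ l, P i l * θ (N l j))
    (m : Model R D (ι → D) (rhoI ω)) (m₁ : Model R₁ D₁ (ι → D₁) (rhoI ω₁)) (m₂ : Model R₂ D₂ (ι → D₂) (rhoI ω₂)) (n : ℕ)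
    (a : m.gr n) : f.gr m m₂ n a = g.gr m₁ m₂ n (h.gr m m₁ n a) := by
  change _ = g.toSHom.gr m₁ m₂ n (h.toSHom.gr m m₁ n a)
  rw [← SHom.gr_comp]
  refine SHom.gr_congr hz f.toSHom (g.toSHom.comp h.toSHom) hζ (fun v => funext fun j => ?_) n a
  rw [toSHom_ηV_apply, SHom.comp_ηV, AddMonoidHom.comp_apply, toSHom_ηV_apply]
  have e : ∀ l, θ (h.toSHom.ηV v l) * P j l = ∑ i, θ (η (v i)) * (P j l * θ (N l i)) := fun l => by
    rw [toSHom_ηV_apply, map_sum, Finset.sum_mul]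
    exact Finset.sum_congr rfl fun i _ => by rw [map_mul]; ring
  rw [Finset.sum_congr rfl fun l _ => e l, Finset.sum_comm]
  refine Finset.sum_congr rfl fun i _ => ?_
  rw [← Finset.mul_sum, hζ, hQ]

theorem gr_id {z : R →+* R} {ζ : D →+* D} {Q : Matrix ι ι D} (f : MHom ω ω z ζ Q) (hz : z = RingHom.id R)
    (hζ : ∀ d, ζ d = d) (hQ : ∀ i j, Q i j = if i = j then 1 else 0) (m : Model R D (ι → D) (rhoI ω)) (n : ℕ)
    (a : m.gr n) : f.gr m m n a = a := by
  refine (SHom.gr_congr hz f.toSHom (SHom.id _) hζ (fun v => funext fun j => ?_) n a).trans (SHom.gr_id m n a)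
  rw [toSHom_ηV_apply, SHom.id_ηV, AddMonoidHom.id_apply, Finset.sum_eq_single j]
  · rw [hQ, if_pos rfl, mul_one, hζ]
  · intro i _ hi
    rw [hQ, if_neg (Ne.symm hi), mul_zero]
  · intro hj; exact absurd (Finset.mem_univ j) hj

/-- pure base change: matrix `1` -/
theorem isBC_ηV (h : MHom ω ω₁ x η 1) : IsBC η h.toSHom.ηV :=
  isBC_of_basis h.toSHom.map_smul (Pi.basisFun D ι) (Pi.basisFun D₁ ι) fun i => by
    rw [toSHom_ηV, Pi.basisFun_apply]
    funext j
    rw [Matrix.one_apply, Pi.single_apply]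

theorem isBC_gr (h : MHom ω ω₁ x η 1) (hx : x.Flat) (hD : IsBC x η.toAddMonoidHom)
    (m : Model R D (ι → D) (rhoI ω)) (m₁ : Model R₁ D₁ (ι → D₁) (rhoI ω₁)) (n : ℕ) : IsBC x (h.gr m m₁ n) :=
  SHom.isBC_gr h.toSHom hx hD h.isBC_ηV m m₁ n

theorem exists_model (h : MHom ω ω₁ x η 1) (hD : IsBC x η.toAddMonoidHom)
    (m : Model R D (ι → D) (rhoI ω)) : Nonempty (Model R₁ D₁ (ι → D₁) (rhoI ω₁)) :=
  SHom.exists_model h.toSHom hD h.isBC_ηV m

end MHom

end MHom

end Groth.Agent.ResProp.EF.K341
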