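import Groth.Prelude.Def_Hoch

/-!
# A comodule structure from a functorial coaction

`N`, `NO`, `NOO`: the values of a functor at `R`, `R ⊗ O`, `R ⊗ O ⊗ O`; `can`, `can₂` the base change isomorphisms; `c` the
map given by the universal point.
-/

set_option autoImplicit false

universe u v w

open TensorProduct

namespace Groth.Agent.ResProp.EF.K341

variable {k : Type u} [CommRing k] {O : Type v} [CommRing O] [Bialgebra k O]
  {N NO NOO : Type*} [AddCommGroup N] [Module k N] [AddCommGroup NO] [Module k NO] [AddCommGroup NOO] [Module k NOO]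

/-- the comodule structure -/
theorem exists_comod (can : N ⊗[k] O →ₗ[k] NO) (hcan : Function.Bijective can)
    (can₂ : NO ⊗[k] O →ₗ[k] NOO) (hcan₂ : Function.Bijective can₂)
    (c : N →ₗ[k] NO) (c' d' : NO →ₗ[k] NOO) (e : NO →ₗ[k] N)
    (h1 : ∀ z o, c' (can (z ⊗ₜ o)) = can₂ (c z ⊗ₜ o))
    (h2 : ∀ z o, d' (can (z ⊗ₜ o)) =
      can₂ (can.rTensor O ((TensorProduct.assoc k N O O).symm (z ⊗ₜ Coalgebra.comul (R := k) o))))
    (h3 : ∀ z o, e (can (z ⊗ₜ o)) = Coalgebra.counit (R := k) o • z)
    (h4 : ∀ z, c' (c z) = d' (c z)) (h5 : ∀ z, e (c z) = z) :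
    ∃ co : HopfRep.Comod k O N, ∀ z, can (co.coact z) = c z := by
  let E : N ⊗[k] O ≃ₗ[k] NO := LinearEquiv.ofBijective can hcan
  let coact : N →ₗ[k] N ⊗[k] O := E.symm.toLinearMap ∘ₗ c
  have hc : ∀ z, can (coact z) = c z := fun z => E.apply_symm_apply (c z)
  have hEO : Function.Injective (can.rTensor O) := by
    have : can.rTensor O = (E.rTensor O).toLinearMap := rfl
    rw [this]
    exact (E.rTensor O).injective
  have H1 : c' ∘ₗ can = can₂ ∘ₗ can.rTensor O ∘ₗ coact.rTensor O := by
    ext z o
    simp [h1, hc]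
  have H2 : d' ∘ₗ can = can₂ ∘ₗ can.rTensor O ∘ₗ (TensorProduct.assoc k N O O).symm.toLinearMap ∘ₗ
      (Coalgebra.comul (R := k) (A := O)).lTensor N := by
    ext z o
    simp [h2]
  have H3 : e ∘ₗ can = (TensorProduct.rid k N).toLinearMap ∘ₗ (Coalgebra.counit (R := k) (A := O)).lTensor N := by
    ext z o
    simp [h3]
  refine ⟨{ coact := coact, coassoc := ?_, counit_comp := ?_ }, hc⟩
  · apply LinearMap.ext
    intro z
    have e1 : can₂ (can.rTensor O (coact.rTensor O (coact z))) = can₂ (can.rTensor O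
        ((TensorProduct.assoc k N O O).symm ((Coalgebra.comul (R := k) (A := O)).lTensor N (coact z)))) := by
      have a1 := LinearMap.congr_fun H1 (coact z)
      have a2 := LinearMap.congr_fun H2 (coact z)
      simp only [LinearMap.comp_apply, LinearEquiv.coe_coe] at a1 a2
      rw [← a1, ← a2, hc, h4]
    have e2 := hEO (hcan₂.1 e1)
    change TensorProduct.assoc k N O O (coact.rTensor O (coact z)) =
      (Coalgebra.comul (R := k) (A := O)).lTensor N (coact z)
    rw [e2, LinearEquiv.apply_symm_apply]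
  · apply LinearMap.ext
    intro z
    have a3 := LinearMap.congr_fun H3 (coact z)
    simp only [LinearMap.comp_apply, LinearEquiv.coe_coe] at a3
    rw [hc, h5] at a3
    change (Coalgebra.counit (R := k) (A := O)).lTensor N (coact z) = z ⊗ₜ 1
    apply (TensorProduct.rid k N).injective
    rw [← a3, TensorProduct.rid_tmul, one_smul]

end Groth.Agent.ResProp.EF.K341
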