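import Groth.Agent.ResProp.EF.K341.Dat
import Groth.Agent.ResProp.EF.K83.FinDatum
import Groth.Prelude.Def_Hoch

/-!
# The coaction on the graded pieces of a model
-/

set_option autoImplicit false
set_option linter.style.haveILetI false
set_option linter.unusedSectionVars false

universe u

open TensorProduct MvPolynomial

namespace Groth.Agent.ResProp.EF.K341

open Groth.Agent.ResProp.EF.K863 K784.BC

theorem isBC_comp_equiv {R S : Type*} [CommRing R] [CommRing S] {φ : R →+* S} {N M N' : Type u} [AddCommGroup N]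
    [Module R N] [AddCommGroup M] [Module R M] [AddCommGroup N'] [Module S N'] {j : M →+ N'} (hb : IsBC φ j) (e : N ≃+ M)
    (he : ∀ (r : R) (z : N), e (r • z) = r • e z) (he' : ∀ (r : R) (z : M), e.symm (r • z) = r • e.symm z) :
    IsBC φ (j.comp e.toAddMonoidHom) := by
  refine IsBC.of_lift (fun a z => ?_) (fun Q _ _ g hg => ?_)
  · change j (e (a • z)) = _
    rw [he]
    exact hb.map_smul a _
  · obtain ⟨g', h1, h2⟩ := hb.existsUnique_lift (g.comp e.symm.toAddMonoidHom) (fun a z => by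
      change g (e.symm (a • z)) = _
      rw [he']
      exact hg a _)
    refine ⟨g', fun z => ?_, fun g'' h3 => h2 g'' fun z => ?_⟩
    · refine (h1 (e z)).trans ?_
      change g (e.symm (e z)) = g z
      rw [e.symm_apply_apply]
    · refine Eq.trans ?_ (h3 (e.symm z))
      change _ = g'' (j (e (e.symm z)))
      rw [e.apply_symm_apply]

section can

variable {k : Type u} [CommRing k] {R : Type u} [CommRing R] [Algebra k R] {S : Type u} [CommRing S] [Algebra k S]
  {N : Type u} [AddCommGroup N] [Module R N] [Module k N] [IsScalarTower k R N]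
  {N' : Type u} [AddCommGroup N'] [Module (R ⊗[k] S) N']

/-- base change along `R → R ⊗ S` is `- ⊗ S` -/
theorem exists_can (j : N →+ N') (hj : IsBC (algebraMap R (R ⊗[k] S)) j) :
    ∃ c : N ⊗[k] S →+ N', Function.Bijective c ∧ ∀ z s, c (z ⊗ₜ s) = ((1 : R) ⊗ₜ[k] s) • j z := by
  letI : Module R N' := Module.compHom N' (algebraMap R (R ⊗[k] S))
  haveI : IsScalarTower R (R ⊗[k] S) N' := ⟨fun r a n => by
    rw [Algebra.smul_def, mul_smul]; rfl⟩
  let f : N →ₗ[R] N' := { j with map_smul' := fun r z => hj.map_smul r z }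
  have hb : IsBaseChange (R ⊗[k] S) f := (isBC_iff f).1 hj
  let E := hb.equiv
  let c0 := (TensorProduct.AlgebraTensorModule.cancelBaseChange k R R N S).symm
  let sw := TensorProduct.comm R N (R ⊗[k] S)
  refine ⟨(E.toAddEquiv.toAddMonoidHom.comp sw.toAddEquiv.toAddMonoidHom).comp c0.toAddEquiv.toAddMonoidHom, ?_, ?_⟩
  · exact (E.bijective.comp sw.bijective).comp c0.bijective
  · intro z s
    change E (sw (c0 (z ⊗ₜ s))) = _
    have h1 : c0 (z ⊗ₜ s) = z ⊗ₜ[R] ((1 : R) ⊗ₜ[k] s) := rfl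
    rw [h1]
    change E (((1 : R) ⊗ₜ[k] s) ⊗ₜ[R] z) = _
    rw [IsBaseChange.equiv_tmul]
    rfl

end can

/-! ### the rings -/

section rings

variable (k : Type u) [CommRing k] (R : Type u) [CommRing R] [Algebra k R] (D : Type u) [CommRing D] [Algebra k D]
  [Algebra R D] [IsScalarTower k R D] (S : Type u) [CommRing S] [Algebra k S] {S' : Type u} [CommRing S'] [Algebra k S']
  {S'' : Type u} [CommRing S''] [Algebra k S'']

/-- `R ⊗ S → D ⊗ S` -/
@[reducible] def algT : Algebra (R ⊗[k] S) (D ⊗[k] S) :=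
  (Algebra.TensorProduct.map (IsScalarTower.toAlgHom k R D) (AlgHom.id k S)).toRingHom.toAlgebra

attribute [local instance] algT

theorem algT_tmul (r : R) (s : S) : algebraMap (R ⊗[k] S) (D ⊗[k] S) (r ⊗ₜ s) = algebraMap R D r ⊗ₜ s := rfl

/-- `R → R ⊗ S` -/
def iI (S : Type u) [CommRing S] [Algebra k S] : R →+* R ⊗[k] S := algebraMap R (R ⊗[k] S)

theorem iI_apply (r : R) : iI k R S r = r ⊗ₜ 1 := rfl

theorem sqI : Sq R D (iI k R S) (iI k D S) := ⟨fun r => rfl⟩

variable {S}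

/-- `R ⊗ S → R ⊗ S'` -/
def tI (φ : S →ₐ[k] S') : R ⊗[k] S →+* R ⊗[k] S' := (Algebra.TensorProduct.map (AlgHom.id k R) φ).toRingHom

@[simp] theorem tI_tmul (φ : S →ₐ[k] S') (r : R) (s : S) : tI k R φ (r ⊗ₜ s) = r ⊗ₜ φ s := rfl

theorem tI_iI (φ : S →ₐ[k] S') (r : R) : tI k R φ (iI k R S r) = iI k R S' r := by
  rw [iI_apply, iI_apply, tI_tmul, map_one]

theorem sqT (φ : S →ₐ[k] S') : Sq (R ⊗[k] S) (D ⊗[k] S) (tI k R φ) (tI k D φ) := ⟨fun r => by
  induction r with
  | zero => rw [map_zero, map_zero, map_zero, map_zero]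
  | add a b ha hb => rw [map_add, map_add, map_add, map_add, ha, hb]
  | tmul a s => rfl⟩

end rings

section flat

variable (k : Type u) [CommRing k] (R : Type u) [CommRing R] [Algebra k R] (D : Type u) [CommRing D] [Algebra k D]
  [Algebra R D] [IsScalarTower k R D] (S : Type u) [CommRing S] [Algebra k S]

attribute [local instance] algT

theorem iI_flat [Module.Flat k S] : (iI k R S).Flat := by
  change (algebraMap R (R ⊗[k] S)).Flat
  rw [RingHom.flat_algebraMap_iff]
  infer_instance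

theorem isBC_iI : IsBC (iI k R S) (iI k D S).toAddMonoidHom := by
  haveI : IsScalarTower R (R ⊗[k] S) (D ⊗[k] S) :=
    @IsScalarTower.of_algebraMap_eq R (R ⊗[k] S) (D ⊗[k] S) _ _ _ _ _ _ fun r => rfl
  let f : D →ₗ[R] D ⊗[k] S :=
    { iI k D S with
      map_smul' := fun r d => by
        change (r • d) ⊗ₜ[k] (1 : S) = r • (d ⊗ₜ[k] (1 : S))
        rw [TensorProduct.smul_tmul'] }
  refine (isBC_iff f).2 ?_
  let c0 := TensorProduct.AlgebraTensorModule.cancelBaseChange k R R D S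
  let sw := TensorProduct.comm R (R ⊗[k] S) D
  have h1 : ∀ (w : R ⊗[k] S) (d : D), c0 (sw (w ⊗ₜ[R] d)) = algebraMap (R ⊗[k] S) (D ⊗[k] S) w * (d ⊗ₜ 1) := by
    intro w d
    induction w with
    | zero => rw [TensorProduct.zero_tmul, map_zero, map_zero, map_zero, zero_mul]
    | add a b ha hb => rw [TensorProduct.add_tmul, map_add, map_add, map_add, ha, hb, add_mul]
    | tmul r s =>
      change (r • d) ⊗ₜ[k] s = (algebraMap R D r ⊗ₜ s) * (d ⊗ₜ 1)
      rw [Algebra.TensorProduct.tmul_mul_tmul, mul_one, Algebra.smul_def]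
  let e0 : (R ⊗[k] S) ⊗[R] D ≃+ D ⊗[k] S := sw.toAddEquiv.trans c0.toAddEquiv
  let e : (R ⊗[k] S) ⊗[R] D ≃ₗ[R ⊗[k] S] D ⊗[k] S :=
    { e0 with
      map_smul' := fun w z => by
        change c0 (sw (w • z)) = w • c0 (sw z)
        induction z with
        | zero => rw [smul_zero, map_zero, map_zero, smul_zero]
        | add a b ha hb => rw [smul_add, map_add, map_add, map_add, map_add, smul_add, ha, hb]
        | tmul v d =>
          rw [TensorProduct.smul_tmul', h1, h1, smul_eq_mul, map_mul, Algebra.smul_def, mul_assoc] }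
  refine IsBaseChange.of_equiv e fun d => ?_
  change c0 (sw ((1 : R ⊗[k] S) ⊗ₜ[R] d)) = _
  rw [h1, map_one, one_mul]
  rfl

end flat

/-! ### the maps of data -/

section maps

variable {k : Type u} [CommRing k] {R : Type u} [CommRing R] [Algebra k R] {D : Type u} [CommRing D] [Algebra k D]
  [Algebra R D] [IsScalarTower k R D] {ι : Type*} [Fintype ι] [DecidableEq ι] (ω : ι → Ω[D⁄R])
  (S : Type u) [CommRing S] [Algebra k S] {S' : Type u} [CommRing S'] [Algebra k S']
  {O : Type u} [CommRing O] [HopfAlgebra k O]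

attribute [local instance] algT

/-- the differentials of `D ⊗ S / R ⊗ S` -/
noncomputable def ωT (i : ι) : Ω[D ⊗[k] S⁄R ⊗[k] S] := om (sqI k R D S) (ω i)

theorem one_rel {M : Type*} [AddCommGroup M] {A : Type*} [CommRing A] [Module A M] (v : ι → M) (i : ι) :
    v i = ∑ j, (1 : Matrix ι ι A) j i • v j := by
  rw [Finset.sum_eq_single i]
  · rw [Matrix.one_apply_eq, one_smul]
  · intro j _ hj
    rw [Matrix.one_apply_ne hj, zero_smul]
  · intro hi; exact absurd (Finset.mem_univ i) hi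

theorem mI : MHom ω (ωT (k := k) ω S) (iI k R S) (iI k D S) 1 where
  sq := sqI k R D S
  rel i := one_rel (fun j => ωT (k := k) ω S j) i

variable {S}

theorem mT (φ : S →ₐ[k] S') : MHom (ωT ω S) (ωT ω S') (tI k R φ) (tI k D φ) 1 where
  sq := sqT k R D φ
  rel i := by
    refine Eq.trans ?_ (one_rel (fun j => ωT (k := k) ω S' j) i)
    have h := (sqT k R D φ).comp (sqI k R D S)
    rw [ωT, ← om_comp (sqT k R D φ) (sqI k R D S) h]
    exact om_congr _ _ (fun d => tI_iI k D φ d) _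

variable (co : K83.CoAlg k O D) (C : Matrix ι ι O)

/-- a coaction of `O` on the datum `(D, ω)` -/
structure CoDat : Prop where
  mρ : MHom ω (ωT ω O) (iI k R O) (co.ρ : D →+* D ⊗[k] O) (Matrix.of fun j i => (1 : D) ⊗ₜ[k] C j i)
  comul : ∀ i j, Coalgebra.comul (R := k) (C i j) = ∑ l, C i l ⊗ₜ[k] C l j
  counit : ∀ i j, Coalgebra.counit (R := k) (C i j) = if i = j then 1 else 0

/-- `O → O ⊗ O`, `o ↦ o ⊗ 1` -/
def inc1 (k : Type u) [CommRing k] (O : Type u) [CommRing O] [Algebra k O] : O →ₐ[k] O ⊗[k] O :=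
  Algebra.TensorProduct.includeLeft

/-- `O → O ⊗ O`, `o ↦ 1 ⊗ o` -/
def inc2 (k : Type u) [CommRing k] (O : Type u) [CommRing O] [Algebra k O] : O →ₐ[k] O ⊗[k] O :=
  Algebra.TensorProduct.includeRight

/-- `d ⊗ o ↦ ρ d ⊗ o` -/
noncomputable def cpAlg : D ⊗[k] O →ₐ[k] D ⊗[k] (O ⊗[k] O) :=
  Algebra.TensorProduct.lift ((Algebra.TensorProduct.map (AlgHom.id k D) (inc1 k O)).comp co.ρ)
    ((Algebra.TensorProduct.includeRight (R := k) (A := D) (B := O ⊗[k] O)).comp (inc2 k O)) (fun _ _ => Commute.all _ _)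

/-- `d ⊗ o ↦ ρ d ⊗ o` -/
noncomputable def cp : D ⊗[k] O →+* D ⊗[k] (O ⊗[k] O) := (cpAlg co).toRingHom

theorem cp_tmul (d : D) (o : O) : cp co (d ⊗ₜ o) = tI k D (inc1 k O) (co.ρ d) * ((1 : D) ⊗ₜ ((1 : O) ⊗ₜ o)) :=
  Algebra.TensorProduct.lift_tmul _ _ _ d o

theorem cp_iI (d : D) : cp co (iI k D O d) = tI k D (inc1 k O) (co.ρ d) := by
  rw [iI_apply, cp_tmul]
  exact mul_one _

theorem cp_one (o : O) : cp co ((1 : D) ⊗ₜ o) = (1 : D) ⊗ₜ ((1 : O) ⊗ₜ o) := by
  rw [cp_tmul, map_one, map_one, one_mul]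

/-- `cp` is `assoc ∘ (ρ ⊗ 1)` -/
theorem cp_eq (w : D ⊗[k] O) : cp co w = TensorProduct.assoc k D O O (co.ρ.toLinearMap.rTensor O w) := by
  induction w with
  | zero => rw [map_zero, map_zero, map_zero]
  | add a b ha hb => rw [map_add, map_add, map_add, ha, hb]
  | tmul d o =>
    rw [cp_tmul, LinearMap.rTensor_tmul, AlgHom.toLinearMap_apply]
    generalize co.ρ d = v
    induction v with
    | zero => rw [map_zero, zero_mul, TensorProduct.zero_tmul, map_zero]
    | add a b ha hb => rw [map_add, add_mul, TensorProduct.add_tmul, map_add, ha, hb]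
    | tmul a s =>
      rw [tI_tmul, Algebra.TensorProduct.tmul_mul_tmul, mul_one]
      change a ⊗ₜ[k] ((s ⊗ₜ[k] (1 : O)) * ((1 : O) ⊗ₜ[k] o)) = a ⊗ₜ[k] (s ⊗ₜ[k] o)
      rw [Algebra.TensorProduct.tmul_mul_tmul, mul_one, one_mul]

/-- `d ⊗ o ↦ ε(o) d` -/
noncomputable def eI (k : Type u) [CommRing k] (D : Type u) [CommRing D] [Algebra k D] (O : Type u) [CommRing O]
    [HopfAlgebra k O] : D ⊗[k] O →+* D :=
  ((Algebra.TensorProduct.rid k k D).toAlgHom.comp
    (Algebra.TensorProduct.map (AlgHom.id k D) (Bialgebra.counitAlgHom k O))).toRingHom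

theorem eI_tmul (d : D) (o : O) : eI k D O (d ⊗ₜ o) = Coalgebra.counit (R := k) o • d := rfl

theorem eI_iI (d : D) : eI k D O (iI k D O d) = d := by
  rw [iI_apply, eI_tmul, Bialgebra.counit_one, one_smul]

theorem eI_eq (w : D ⊗[k] O) : eI k D O w = TensorProduct.rid k D ((Coalgebra.counit (R := k) (A := O)).lTensor D w) :=
  rfl

theorem sqE : Sq (R ⊗[k] O) (D ⊗[k] O) (eI k R O) (eI k D O) := ⟨fun r => by
  induction r with
  | zero => rw [map_zero, map_zero, map_zero, map_zero]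
  | add a b ha hb => rw [map_add, map_add, map_add, map_add, ha, hb]
  | tmul a s =>
    rw [algT_tmul, eI_tmul, eI_tmul, Algebra.smul_def, Algebra.smul_def, map_mul, ← IsScalarTower.algebraMap_apply]⟩

theorem mE : MHom (ωT ω O) ω (eI k R O) (eI k D O) 1 where
  sq := sqE
  rel i := by
    refine Eq.trans ?_ (one_rel (fun j => ω j) i)
    rw [ωT, ← om_comp (sqE (k := k) (R := R) (D := D) (O := O)) (sqI k R D O) ((sqE).comp (sqI k R D O))]
    exact (om_congr _ Sq.id (fun d => eI_iI d) _).trans (om_id _ _)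

variable {ω co C}

theorem sqC (h : CoDat ω co C) : Sq (R ⊗[k] O) (D ⊗[k] O) (tI k R (inc2 k O)) (cp co) := ⟨fun r => by
  induction r with
  | zero => rw [map_zero, map_zero, map_zero, map_zero]
  | add a b ha hb => rw [map_add, map_add, map_add, map_add, ha, hb]
  | tmul a o =>
    have h1 : co.ρ (algebraMap R D a) = algebraMap R D a ⊗ₜ 1 := h.mρ.sq.alg a
    rw [algT_tmul, cp_tmul, h1, tI_tmul, tI_tmul, algT_tmul, map_one, Algebra.TensorProduct.tmul_mul_tmul, mul_one,
      one_mul]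
    rfl⟩

theorem mC (h : CoDat ω co C) : MHom (ωT ω O) (ωT ω (O ⊗[k] O)) (tI k R (inc2 k O)) (cp co)
    (Matrix.of fun j i => (1 : D) ⊗ₜ[k] (C j i ⊗ₜ[k] (1 : O))) where
  sq := sqC h
  rel i := by
    have h1 := (mT (k := k) ω (inc1 k O)).comp h.mρ
    have h2 := h1.rel i
    rw [ωT, ← om_comp (sqC h) (sqI k R D O) ((sqC h).comp (sqI k R D O))]
    refine (om_congr _ h1.sq (fun d => cp_iI co d) _).trans (h2.trans (Finset.sum_congr rfl fun j _ => ?_))
    rw [Matrix.one_mul, Matrix.map_apply, Matrix.of_apply, Matrix.of_apply]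
    rfl

end maps

/-! ### abstract lemma -/

section abs

variable {k : Type u} [CommRing k] {O : Type u} [CommRing O] [HopfAlgebra k O]
  {N NO NOO : Type u} [AddCommGroup N] [Module k N] [AddCommGroup NO] [AddCommGroup NOO]

/-- a comodule structure from a functorial coaction, additive form -/
theorem exists_comodA (can : N ⊗[k] O →+ NO) (hcan : Function.Bijective can)
    (can2 : N ⊗[k] (O ⊗[k] O) →+ NOO) (hcan2 : Function.Injective can2)
    (c : N →+ NO) (cm cD t1 : NO →+ NOO) (e : NO →+ N) (μ : O → NOO →+ NOO)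
    (hk : ∀ (r : k) (z : N) (w : N ⊗[k] O), can w = c z → can (r • w) = c (r • z))
    (ha : ∀ z s, can2 (z ⊗ₜ Coalgebra.comul (R := k) s) = cD (can (z ⊗ₜ s)))
    (hb : ∀ z s, cm (can (z ⊗ₜ s)) = μ s (t1 (c z)))
    (hb1 : ∀ z s s', can2 (z ⊗ₜ (s ⊗ₜ s')) = μ s' (t1 (can (z ⊗ₜ s))))
    (hcc : ∀ z, cm (c z) = cD (c z))
    (hd : ∀ z s, e (can (z ⊗ₜ s)) = Coalgebra.counit (R := k) s • z) (he : ∀ z, e (c z) = z) :
    ∃ co : HopfRep.Comod k O N, ∀ z, can (co.coact z) = c z := by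
  let E : N ⊗[k] O ≃+ NO := AddEquiv.ofBijective can hcan
  let coact : N →ₗ[k] N ⊗[k] O :=
    { toFun := fun z => E.symm (c z)
      map_add' := fun a b => by rw [map_add, map_add]
      map_smul' := fun r z => by
        apply hcan.1
        rw [RingHom.id_apply, hk r z]
        · exact E.apply_symm_apply _
        · exact E.apply_symm_apply _ }
  have hc : ∀ z, can (coact z) = c z := fun z => E.apply_symm_apply _
  have ha' : ∀ w : N ⊗[k] O, can2 ((Coalgebra.comul (R := k) (A := O)).lTensor N w) = cD (can w) := by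
    intro w
    induction w with
    | zero => rw [map_zero, map_zero, map_zero, map_zero]
    | add a b ha hb => rw [map_add, map_add, map_add, map_add, ha, hb]
    | tmul z s => rw [LinearMap.lTensor_tmul, ha]
  have hb1' : ∀ (v : N ⊗[k] O) (o : O), can2 (TensorProduct.assoc k N O O (v ⊗ₜ o)) = μ o (t1 (can v)) := by
    intro v o
    induction v with
    | zero => rw [TensorProduct.zero_tmul, map_zero, map_zero, map_zero, map_zero, map_zero]
    | add a b ha hb => rw [TensorProduct.add_tmul, map_add, map_add, map_add, map_add, map_add, ha, hb]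
    | tmul z s => rw [TensorProduct.assoc_tmul, hb1]
  have hb' : ∀ w : N ⊗[k] O, can2 (TensorProduct.assoc k N O O (coact.rTensor O w)) = cm (can w) := by
    intro w
    induction w with
    | zero => rw [map_zero, map_zero, map_zero, map_zero, map_zero]
    | add a b ha hb => rw [map_add, map_add, map_add, map_add, map_add, ha, hb]
    | tmul z s => rw [LinearMap.rTensor_tmul, hb1', hc, hb]
  have hd' : ∀ w : N ⊗[k] O, e (can w) = TensorProduct.rid k N ((Coalgebra.counit (R := k) (A := O)).lTensor N w) := by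
    intro w
    induction w with
    | zero => rw [map_zero, map_zero, map_zero, map_zero]
    | add a b ha hb => rw [map_add, map_add, map_add, map_add, ha, hb]
    | tmul z s => rw [hd, LinearMap.lTensor_tmul, TensorProduct.rid_tmul]
  refine ⟨{ coact := coact, coassoc := ?_, counit_comp := ?_ }, hc⟩
  · apply LinearMap.ext
    intro z
    apply hcan2
    change can2 (TensorProduct.assoc k N O O (coact.rTensor O (coact z))) =
      can2 ((Coalgebra.comul (R := k) (A := O)).lTensor N (coact z))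
    rw [hb', ha', hc, hcc]
  · apply LinearMap.ext
    intro z
    change (Coalgebra.counit (R := k) (A := O)).lTensor N (coact z) = z ⊗ₜ 1
    apply (TensorProduct.rid k N).injective
    rw [← hd', hc, he, TensorProduct.rid_tmul, one_smul]

end abs

/-! ### the coaction on `gr` -/

section co

variable {k : Type u} [CommRing k] {R : Type u} [CommRing R] [Algebra k R] {D : Type u} [CommRing D] [Algebra k D]
  [Algebra R D] [IsScalarTower k R D] {ι : Type*} [Fintype ι] [DecidableEq ι] {ω : ι → Ω[D⁄R]}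
  {O : Type u} [CommRing O] [HopfAlgebra k O] {co : K83.CoAlg k O D} {C : Matrix ι ι O}

attribute [local instance] algT

variable (m : Model R D (ι → D) (rhoI ω)) (n : ℕ)

omit m in
theorem one_smul_gr {S : Type u} [CommRing S] [Algebra k S] (mS : Model (R ⊗[k] S) (D ⊗[k] S) (ι → D ⊗[k] S)
    (rhoI (ωT ω S))) (s : S) (y : mS.gr n) : ((1 : R) ⊗ₜ[k] s) • y = ((1 : D) ⊗ₜ[k] s) • y := by
  refine (K341.gr_rsmul mS n ((1 : R) ⊗ₜ[k] s) y).trans ?_
  have : algebraMap (R ⊗[k] S) (D ⊗[k] S) ((1 : R) ⊗ₜ[k] s) = (1 : D) ⊗ₜ[k] s := by rw [algT_tmul, map_one]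
  rw [this]

variable {N : Type u} [AddCommGroup N] [Module k N] [Module D N] [IsScalarTower k D N]
  (eN : N ≃+ m.gr n) (heN : ∀ (d : D) z, eN (d • z) = d • eN z)

include heN in
theorem exists_canGr {S : Type u} [CommRing S] [Algebra k S] [Module.Flat k S]
    (mS : Model (R ⊗[k] S) (D ⊗[k] S) (ι → D ⊗[k] S) (rhoI (ωT ω S))) :
    ∃ c : N ⊗[k] S →+ mS.gr n, Function.Bijective c ∧
      ∀ z s, c (z ⊗ₜ s) = ((1 : D) ⊗ₜ[k] s) • (mI (k := k) ω S).gr m mS n (eN z) := by
  letI : Module R N := Module.compHom N (algebraMap R D)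
  have hR : ∀ (r : R) (z : N), r • z = algebraMap R D r • z := fun _ _ => rfl
  haveI : IsScalarTower k R N := ⟨fun a r z => by
    rw [hR, hR, Algebra.smul_def, map_mul, mul_smul, ← IsScalarTower.algebraMap_apply, algebraMap_smul]⟩
  have hb := (mI (k := k) ω S).isBC_gr (iI_flat k R S) (isBC_iI k R D S) m mS n
  have heR : ∀ (r : R) (z : N), eN (r • z) = r • eN z := fun r z =>
    (heN (algebraMap R D r) z).trans (K341.gr_rsmul m n r (eN z)).symm
  have heR' : ∀ (r : R) (z : m.gr n), eN.symm (r • z) = r • eN.symm z := fun r z => by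
    apply eN.injective
    rw [eN.apply_symm_apply, heR, eN.apply_symm_apply]
  have hb' : IsBC (algebraMap R (R ⊗[k] S)) (((mI (k := k) ω S).gr m mS n).comp eN.toAddMonoidHom) :=
    isBC_comp_equiv hb eN heR heR'
  obtain ⟨c, h1, h2⟩ := exists_can (k := k) (R := R) (S := S) (N := N) (N' := mS.gr n) _ hb'
  exact ⟨c, h1, fun z s => (h2 z s).trans (one_smul_gr n mS s _)⟩

theorem one_apply_comp {A : Type*} [CommRing A] {B : Type*} [CommRing B] (f : B →+* A) (i j : ι) :
    (1 : Matrix ι ι A) i j = ∑ l, (1 : Matrix ι ι A) i l * f ((1 : Matrix ι ι B) l j) := by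
  rw [Finset.sum_eq_single i]
  · rw [Matrix.one_apply_eq, one_mul, Matrix.one_apply, Matrix.one_apply]
    split_ifs
    · rw [map_one]
    · rw [map_zero]
  · intro l _ hl
    rw [Matrix.one_apply_ne (Ne.symm hl), zero_mul]
  · intro hj; exact absurd (Finset.mem_univ i) hj

theorem gr_mT_mI {S : Type u} [CommRing S] [Algebra k S] {S' : Type u} [CommRing S'] [Algebra k S'] (φ : S →ₐ[k] S')
    (mS : Model (R ⊗[k] S) (D ⊗[k] S) (ι → D ⊗[k] S) (rhoI (ωT ω S)))
    (mS' : Model (R ⊗[k] S') (D ⊗[k] S') (ι → D ⊗[k] S') (rhoI (ωT ω S'))) (z : m.gr n) :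
    (mT ω φ).gr mS mS' n ((mI (k := k) ω S).gr m mS n z) = (mI (k := k) ω S').gr m mS' n z :=
  ((mT ω φ).gr_comp (mI (k := k) ω S) (mI (k := k) ω S')
    (RingHom.ext fun r => (tI_iI k R φ r).symm) (fun d => (tI_iI k D φ d).symm) (fun i j => one_apply_comp _ i j)
      m mS mS' n z).symm

end co

/-! ### second abstract lemma -/

section abs2

variable {k : Type u} [CommRing k] {D : Type u} [CommRing D] [Algebra k D]
  {O : Type u} [CommRing O] [HopfAlgebra k O] (co : K83.CoAlg k O D)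
  {N NO NOO : Type u} [AddCommGroup N] [Module k N] [Module D N] [IsScalarTower k D N] [AddCommGroup NO]
  [Module (D ⊗[k] O) NO] [AddCommGroup NOO] [Module (D ⊗[k] (O ⊗[k] O)) NOO]

theorem exists_comodB (can : N ⊗[k] O →+ NO) (hcan : Function.Bijective can)
    (can2 : N ⊗[k] (O ⊗[k] O) →+ NOO) (hcan2 : Function.Injective can2)
    (gI gρ : N →+ NO) (gI2 : N →+ NOO) (gC gD gT : NO →+ NOO) (gE : NO →+ N)
    (can_t : ∀ z s, can (z ⊗ₜ s) = ((1 : D) ⊗ₜ[k] s) • gI z)
    (can2_t : ∀ z s, can2 (z ⊗ₜ s) = ((1 : D) ⊗ₜ[k] s) • gI2 z)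
    (sρ : ∀ (d : D) z, gρ (d • z) = co.ρ d • gρ z)
    (sC : ∀ (x : D ⊗[k] O) y, gC (x • y) = cp co x • gC y)
    (sD : ∀ (x : D ⊗[k] O) y, gD (x • y) = tI k D (Bialgebra.comulAlgHom k O) x • gD y)
    (sT : ∀ (x : D ⊗[k] O) y, gT (x • y) = tI k D (inc1 k O) x • gT y)
    (sE : ∀ (x : D ⊗[k] O) y, gE (x • y) = eI k D O x • gE y)
    (h1 : ∀ z, gD (gI z) = gI2 z) (h2 : ∀ z, gT (gI z) = gI2 z) (h3 : ∀ z, gC (gI z) = gT (gρ z))
    (h4 : ∀ z, gC (gρ z) = gD (gρ z)) (h5 : ∀ z, gE (gI z) = z) (h6 : ∀ z, gE (gρ z) = z) :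
    ∃ co' : HopfRep.Comod k O N, ∀ z, can (co'.coact z) = gρ z := by
  have hkk : ∀ (r : k) (w : N ⊗[k] O), can (r • w) = ((1 : D) ⊗ₜ[k] algebraMap k O r) • can w := by
    intro r w
    induction w with
    | zero => rw [smul_zero, map_zero, smul_zero]
    | add a b ha hb => rw [smul_add, map_add, map_add, ha, hb, smul_add]
    | tmul z s =>
      rw [← TensorProduct.tmul_smul, can_t, can_t, smul_smul, Algebra.TensorProduct.tmul_mul_tmul, one_mul,
        Algebra.smul_def]
  refine exists_comodA can hcan can2 hcan2 gρ gC gD gT gE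
    (fun s => DistribSMul.toAddMonoidHom NOO ((1 : D) ⊗ₜ[k] ((1 : O) ⊗ₜ[k] s))) ?_ ?_ ?_ ?_ h4 ?_ h6
  · intro r z w hw
    rw [hkk, hw, ← algebraMap_smul D r z, sρ, AlgHom.commutes, Algebra.TensorProduct.algebraMap_apply,
      Algebra.algebraMap_eq_smul_one, Algebra.algebraMap_eq_smul_one, TensorProduct.smul_tmul]
  · intro z s
    rw [can2_t, can_t, sD, h1]
    rfl
  · intro z s
    rw [can_t, sC, cp_one, h3]
    rfl
  · intro z s s'
    change _ = ((1 : D) ⊗ₜ[k] ((1 : O) ⊗ₜ[k] s')) • gT (can (z ⊗ₜ s))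
    rw [can2_t, can_t, sT, h2, smul_smul, tI_tmul, Algebra.TensorProduct.tmul_mul_tmul, one_mul]
    change _ = ((1 : D) ⊗ₜ[k] (((1 : O) ⊗ₜ[k] s') * (s ⊗ₜ[k] (1 : O)))) • _
    rw [Algebra.TensorProduct.tmul_mul_tmul, one_mul, mul_one]
  · intro z s
    rw [can_t, sE, eI_tmul, h5, ← Algebra.algebraMap_eq_smul_one, algebraMap_smul]

end abs2

section co2

variable {k : Type u} [CommRing k] {R : Type u} [CommRing R] [Algebra k R] {D : Type u} [CommRing D] [Algebra k D]
  [Algebra R D] [IsScalarTower k R D] {ι : Type*} [Fintype ι] [DecidableEq ι] {ω : ι → Ω[D⁄R]}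
  {O : Type u} [CommRing O] [HopfAlgebra k O] {co : K83.CoAlg k O D} {C : Matrix ι ι O}

attribute [local instance] algT

variable (m : Model R D (ι → D) (rhoI ω)) (n : ℕ)
    (mO : Model (R ⊗[k] O) (D ⊗[k] O) (ι → D ⊗[k] O) (rhoI (ωT ω O)))
    (mOO : Model (R ⊗[k] (O ⊗[k] O)) (D ⊗[k] (O ⊗[k] O)) (ι → D ⊗[k] (O ⊗[k] O)) (rhoI (ωT ω (O ⊗[k] O))))

theorem gr_h3 (h : CoDat ω co C) (z : m.gr n) : (mC h).gr mO mOO n ((mI (k := k) ω O).gr m mO n z) =
    (mT ω (inc1 k O)).gr mO mOO n (h.mρ.gr m mO n z) := by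
  have e1 := (mT ω (inc1 k O)).comp h.mρ
  refine Eq.trans ?_ ((mT ω (inc1 k O)).gr_comp h.mρ e1 rfl (fun _ => rfl) (fun i j => Matrix.mul_apply) m mO mOO n z)
  refine ((mC h).gr_comp (mI (k := k) ω O) e1 (RingHom.ext fun r => ?_) (fun d => (cp_iI co d).symm)
    (fun i j => ?_) m mO mOO n z).symm
  · change tI k R (inc1 k O) (iI k R O r) = tI k R (inc2 k O) (iI k R O r)
    rw [tI_iI, tI_iI]
  · rw [Matrix.one_mul]
    change tI k D (inc1 k O) ((1 : D) ⊗ₜ[k] C i j) = ∑ l, ((1 : D) ⊗ₜ[k] (C i l ⊗ₜ[k] (1 : O))) *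
      cp co ((1 : Matrix ι ι (D ⊗[k] O)) l j)
    rw [Finset.sum_eq_single j]
    · rw [Matrix.one_apply_eq, map_one, mul_one]; rfl
    · intro l _ hl
      rw [Matrix.one_apply_ne hl, map_zero, mul_zero]
    · intro hj; exact absurd (Finset.mem_univ j) hj

theorem gr_h4 (h : CoDat ω co C) (z : m.gr n) : (mC h).gr mO mOO n (h.mρ.gr m mO n z) =
    (mT ω (Bialgebra.comulAlgHom k O)).gr mO mOO n (h.mρ.gr m mO n z) := by
  have e1 := (mC h).comp h.mρ
  refine ((mC h).gr_comp h.mρ e1 rfl (fun _ => rfl) (fun i j => Matrix.mul_apply) m mO mOO n z).symm.trans ?_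
  refine (mT ω (Bialgebra.comulAlgHom k O)).gr_comp h.mρ e1 (RingHom.ext fun r => ?_) (fun d => ?_) (fun i j => ?_)
    m mO mOO n _
  · change tI k R _ (iI k R O r) = tI k R _ (iI k R O r)
    rw [tI_iI, tI_iI]
  · change cp co (co.ρ d) = tI k D (Bialgebra.comulAlgHom k O) (co.ρ d)
    rw [cp_eq, co.coassoc]
    rfl
  · rw [Matrix.mul_apply]
    change ∑ l, ((1 : D) ⊗ₜ[k] (C i l ⊗ₜ[k] (1 : O))) * cp co ((1 : D) ⊗ₜ[k] C l j) =
      ∑ l, (1 : Matrix ι ι (D ⊗[k] (O ⊗[k] O))) i l * tI k D (Bialgebra.comulAlgHom k O) ((1 : D) ⊗ₜ[k] C l j)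
    rw [Finset.sum_eq_single i (f := fun l => (1 : Matrix ι ι (D ⊗[k] (O ⊗[k] O))) i l *
      tI k D (Bialgebra.comulAlgHom k O) ((1 : D) ⊗ₜ[k] C l j))]
    · rw [Matrix.one_apply_eq, one_mul, tI_tmul]
      change _ = (1 : D) ⊗ₜ[k] Coalgebra.comul (R := k) (C i j)
      rw [h.comul, TensorProduct.tmul_sum]
      exact Finset.sum_congr rfl fun l _ => by
        rw [cp_one, Algebra.TensorProduct.tmul_mul_tmul, Algebra.TensorProduct.tmul_mul_tmul, one_mul, mul_one, one_mul]
    · intro l _ hl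
      rw [Matrix.one_apply_ne (Ne.symm hl), zero_mul]
    · intro hj; exact absurd (Finset.mem_univ i) hj

theorem gr_h5 (z : m.gr n) : (mE (k := k) ω).gr mO m n ((mI (k := k) ω O).gr m mO n z) = z := by
  have e2 := (mE (k := k) ω).comp (mI (k := k) ω O)
  refine ((mE (k := k) ω).gr_comp (mI (k := k) ω O) e2 rfl (fun _ => rfl) (fun i j => Matrix.mul_apply) m mO m n
    z).symm.trans ?_
  refine e2.gr_id (RingHom.ext fun r => eI_iI r) (fun d => eI_iI d) (fun i j => ?_) m n z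
  rw [Matrix.one_mul, Matrix.map_apply, Matrix.one_apply]
  split_ifs
  · rw [map_one]
  · rw [map_zero]

theorem gr_h6 (h : CoDat ω co C) (z : m.gr n) : (mE (k := k) ω).gr mO m n (h.mρ.gr m mO n z) = z := by
  have e2 := (mE (k := k) ω).comp h.mρ
  refine ((mE (k := k) ω).gr_comp h.mρ e2 rfl (fun _ => rfl) (fun i j => Matrix.mul_apply) m mO m n z).symm.trans ?_
  refine e2.gr_id (RingHom.ext fun r => eI_iI r) (fun d => ?_) (fun i j => ?_) m n z
  · change eI k D O (co.ρ d) = d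
    rw [eI_eq, co.counit, TensorProduct.rid_tmul, one_smul]
  · rw [Matrix.one_mul, Matrix.map_apply]
    change eI k D O ((1 : D) ⊗ₜ[k] C i j) = _
    rw [eI_tmul, h.counit]
    split_ifs
    · rw [one_smul]
    · rw [zero_smul]

variable {m n mO mOO} {N : Type u} [AddCommGroup N] [Module k N] [Module D N] [IsScalarTower k D N]

include mOO in
/-- the coaction, characterized by `can (coact z) = gr(ρ) z` -/
theorem exists_grCo [Module.Flat k O] (h : CoDat ω co C)
    (eN : N ≃+ m.gr n) (heN : ∀ (d : D) z, eN (d • z) = d • eN z)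
    (can : N ⊗[k] O →+ mO.gr n) (hcan : Function.Bijective can)
    (can_t : ∀ z s, can (z ⊗ₜ s) = ((1 : D) ⊗ₜ[k] s) • (mI (k := k) ω O).gr m mO n (eN z)) :
    ∃ co' : HopfRep.Comod k O N, ∀ z, can (co'.coact z) = h.mρ.gr m mO n (eN z) := by
  obtain ⟨can2, hcan2, can2_t⟩ := exists_canGr (k := k) m n eN heN mOO
  refine exists_comodB co can hcan can2 hcan2.1 (((mI (k := k) ω O).gr m mO n).comp eN.toAddMonoidHom)
    ((h.mρ.gr m mO n).comp eN.toAddMonoidHom) (((mI (k := k) ω (O ⊗[k] O)).gr m mOO n).comp eN.toAddMonoidHom)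
    ((mC h).gr mO mOO n) ((mT ω (Bialgebra.comulAlgHom k O)).gr mO mOO n) ((mT ω (inc1 k O)).gr mO mOO n)
    (eN.symm.toAddMonoidHom.comp ((mE (k := k) ω).gr mO m n)) can_t can2_t ?_ ?_ ?_ ?_ ?_ ?_ ?_ ?_ ?_ ?_ ?_
  · intro d z
    exact (congrArg (h.mρ.gr m mO n) (heN d z)).trans (MHom.gr_smul h.mρ m mO n d (eN z))
  · exact fun x y => MHom.gr_smul (mC h) mO mOO n x y
  · exact fun x y => MHom.gr_smul (mT ω (Bialgebra.comulAlgHom k O)) mO mOO n x y
  · exact fun x y => MHom.gr_smul (mT ω (inc1 k O)) mO mOO n x y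
  · intro x y
    apply eN.injective
    refine Eq.trans ?_ (heN _ _).symm
    exact (eN.apply_symm_apply _).trans ((MHom.gr_smul (mE (k := k) ω) mO m n x y).trans
      (congrArg (fun t => eI k D O x • t) (eN.apply_symm_apply _).symm))
  · exact fun z => gr_mT_mI m n _ mO mOO (eN z)
  · exact fun z => gr_mT_mI m n _ mO mOO (eN z)
  · exact fun z => gr_h3 m n mO mOO h (eN z)
  · exact fun z => gr_h4 m n mO mOO h (eN z)
  · exact fun z => (congrArg eN.symm (gr_h5 m n mO (eN z))).trans (eN.symm_apply_apply z)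
  · exact fun z => (congrArg eN.symm (gr_h6 m n mO h (eN z))).trans (eN.symm_apply_apply z)

end co2

end Groth.Agent.ResProp.EF.K341
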