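import Groth.Agent.ResProp.EF.K341.Semi
import Groth.Agent.ResProp.EF.K964.GrBC
import Groth.Agent.StMod.K784.BC
import Mathlib.RingTheory.TensorProduct.IsBaseChangeFree

/-!
# The graded pieces of a model commute with flat base change, choice-free form
-/

set_option autoImplicit false
set_option linter.style.haveILetI false

open MvPolynomial

namespace Groth.Agent.ResProp.EF.K341

open Groth.Agent.ResProp.EF.K863 K784.BC

/-- `Module R` on a graded piece (through `D`) : `r • x = algebraMap R D r • x`. -/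
theorem gr_rsmul {R : Type*} [CommRing R] {D : Type*} [CommRing D] [Algebra R D] {V : Type*}
    [AddCommGroup V] [Module D V] {ρ : V →ₗ[D] Ω[D⁄R]} (m : Model R D V ρ) (n : ℕ) (r : R) (a : m.gr n) :
    r • a = algebraMap R D r • a := by
  obtain ⟨z, rfl⟩ := m.toGr_surjective n a
  have h1 : m.f (C r) = algebraMap R D r := by
    rw [← MvPolynomial.algebraMap_eq, AlgHom.commutes]
  rw [← h1, Model.f_smul_toGr]
  have h2 : r • m.toGr n z = m.toGr n (r • z) := rfl
  rw [h2]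
  congr 1
  refine Subtype.ext ?_
  change r • (z : m.PP) = C r * (z : m.PP)
  rw [MvPolynomial.smul_eq_C_mul]

section

variable {R : Type*} [CommRing R] {R₁ : Type*} [CommRing R₁]
  {D : Type*} [CommRing D] [Algebra R D] {V : Type*} [AddCommGroup V] [Module D V] {ρ : V →ₗ[D] Ω[D⁄R]}
  {D₁ : Type*} [CommRing D₁] [Algebra R₁ D₁] {V₁ : Type*} [AddCommGroup V₁] [Module D₁ V₁]
  {ρ₁ : V₁ →ₗ[D₁] Ω[D₁⁄R₁]} {x : R →+* R₁}

theorem SHom.gr_rsmul (h : SHom ρ ρ₁ x) (m : Model R D V ρ) (m₁ : Model R₁ D₁ V₁ ρ₁) (n : ℕ) (r : R) (a : m.gr n) :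
    h.gr m m₁ n (r • a) = x r • h.gr m m₁ n a := by
  rw [K341.gr_rsmul, SHom.gr_smul, h.η_alg, ← K341.gr_rsmul]

/-- An isomorphism of data induces a bijection on graded pieces. -/
theorem SHom.gr_bijective (h : SHom ρ ρ₁ x) {y : R₁ →+* R} (g : SHom ρ₁ ρ y) (m : Model R D V ρ)
    (m₁ : Model R₁ D₁ V₁ ρ₁) (hyx : y.comp x = RingHom.id R) (hxy : x.comp y = RingHom.id R₁)
    (h1 : ∀ d, g.η (h.η d) = d) (h2 : ∀ v, g.ηV (h.ηV v) = v) (h3 : ∀ d, h.η (g.η d) = d)
    (h4 : ∀ v, h.ηV (g.ηV v) = v) (n : ℕ) : Function.Bijective (h.gr m m₁ n) := by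
  refine Function.bijective_iff_has_inverse.2 ⟨g.gr m₁ m n, fun a => ?_, fun a => ?_⟩
  · rw [← SHom.gr_comp, SHom.gr_congr hyx (g.comp h) (SHom.id ρ) (fun d => h1 d) (fun v => h2 v), SHom.gr_id]
  · rw [← SHom.gr_comp, SHom.gr_congr hxy (h.comp g) (SHom.id ρ₁) (fun d => h3 d) (fun v => h4 v), SHom.gr_id]

/-- Two models of the same data have the same graded pieces. -/
theorem SHom.gr_id_bijective (m m' : Model R D V ρ) (n : ℕ) : Function.Bijective ((SHom.id ρ).gr m m' n) :=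
  SHom.gr_bijective (SHom.id ρ) (SHom.id ρ) m m' rfl rfl (fun _ => rfl) (fun _ => rfl) (fun _ => rfl) (fun _ => rfl) n

/-- **Flat base change of the graded pieces.** -/
theorem SHom.isBC_gr (h : SHom ρ ρ₁ x) (hx : x.Flat) (hD : IsBC x h.η.toAddMonoidHom) (hV : IsBC h.η h.ηV)
    (m : Model R D V ρ) (m₁ : Model R₁ D₁ V₁ ρ₁) (n : ℕ) : IsBC x (h.gr m m₁ n) := by
  letI := x.toAlgebra
  haveI : Module.Flat R R₁ := hx
  letI : Algebra R D₁ := (h.η.comp (algebraMap R D)).toAlgebra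
  haveI : IsScalarTower R R₁ D₁ := .of_algebraMap_eq fun r => h.η_alg r
  let h' : D →ₐ[R] D₁ := { h.η with commutes' := fun r => rfl }
  have hb : IsBaseChange R₁ h'.toLinearMap := (isBC_iff h'.toLinearMap).1 hD
  letI i1 : Algebra D D₁ := h.η.toAlgebra
  letI i2 : Module D V₁ := Module.compHom V₁ h.η
  haveI : IsScalarTower D D₁ V₁ := ⟨fun a b n => mul_smul (h.η a) b n⟩
  let j : V →ₗ[D] V₁ := { h.ηV with map_smul' := h.map_smul }
  have hj : IsBaseChange D₁ j := (isBC_iff j).1 hV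
  let b₁ : Module.Basis (Fin m.M) D₁ V₁ := hj.basis m.b
  have hb₁ : ∀ i, b₁ i = h.ηV (m.b i) := fun i => hj.basis_apply m.b i
  let m' : Model R₁ D₁ V₁ ρ₁ := m.baseChange h' hb b₁ fun i => by
    rw [hb₁]; exact h.compat _ _ (m.hb i)
  have hφ : IsSHom (m := m) (m₁ := m') h (K964.bcMap m h' hb b₁ (fun i => by
      rw [hb₁]; exact h.compat _ _ (m.hb i))).toRingHom := by
    refine isSHom_of_X h _ (fun r => ?_) (fun i => ?_) (fun i => ?_)
    · exact MvPolynomial.map_C _ _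
    · exact K964.f_bcMap m h' hb b₁ _ (X i)
    · change m'.dV (MvPolynomial.map (algebraMap R R₁) (X i)) = _
      rw [MvPolynomial.map_X, Model.dV_X, ← hb₁]
  have h1 : IsBC x (h.gr m m' n) := by
    have h2 := (isBC_iff (K964.grBC m h' hb b₁ (fun i => by
      rw [hb₁]; exact h.compat _ _ (m.hb i)) n)).2 (K964.isBaseChange_grBC m h' hb b₁ _ n)
    have h3 : h.gr m m' n = (K964.grBC m h' hb b₁ (fun i => by
      rw [hb₁]; exact h.compat _ _ (m.hb i)) n).toAddMonoidHom := by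
      ext a
      obtain ⟨z, rfl⟩ := m.toGr_surjective n a
      rw [SHom.gr_toGr hφ]
      rfl
    rw [h3]
    exact h2
  have h4 : ∀ a, (SHom.id ρ₁).gr m' m₁ n (h.gr m m' n a) = h.gr m m₁ n a := fun a => by
    rw [← SHom.gr_comp]
    exact SHom.gr_congr (RingHom.id_comp x) _ _ (fun _ => rfl) (fun _ => rfl) n a
  let e : m'.gr n ≃ₗ[R₁] m₁.gr n := LinearEquiv.ofBijective
    { (SHom.id ρ₁).gr m' m₁ n with map_smul' := fun r a => SHom.gr_rsmul (SHom.id ρ₁) m' m₁ n r a }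
    (SHom.gr_id_bijective m' m₁ n)
  exact IsBC.of_equiv h1 e h4

end

end Groth.Agent.ResProp.EF.K341
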