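import Groth.Agent.ResProp.EF.K863.Quot
import Groth.Agent.ResProp.EF.K964.ModelBC

/-!
# Maps of models over different base rings (G3: functoriality of the graded pieces)

`SHom x ρ ρ₁` : a map of data `(D, V, ρ)` over `R` to `(D₁, V₁, ρ₁)` over `R₁`, semilinear over a ring map `x : R → R₁`
(base change, coactions, ..).  It induces ONE additive map `m.gr n → m₁.gr n`, functorial, computed by any lift
`m.PP → m₁.PP`.
-/

set_option autoImplicit false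

open MvPolynomial

namespace Groth.Agent.ResProp.EF.K341

open Groth.Agent.ResProp.EF.K863

section taylor

variable {R : Type*} [CommRing R] {σ : Type*} [Fintype σ] {Q : Type*} [CommRing Q]

/-- First order Taylor formula for two ring maps on a polynomial ring which agree modulo `I` and on constants. -/
theorem taylorS (α β : MvPolynomial σ R →+* Q) (hC : ∀ a, α (C a) = β (C a)) (I : Ideal Q)
    (h : ∀ i, α (X i) - β (X i) ∈ I) (z : MvPolynomial σ R) :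
    α z - β z ∈ I ∧ α z - β z - ∑ i, (α (X i) - β (X i)) * β (pderiv i z) ∈ I ^ 2 := by
  letI : Algebra R Q := (β.comp C).toAlgebra
  let α' : MvPolynomial σ R →ₐ[R] Q := { α with commutes' := fun a => hC a }
  let β' : MvPolynomial σ R →ₐ[R] Q := { β with commutes' := fun a => rfl }
  exact taylor α' β' I h z

end taylor

section

variable {R : Type*} [CommRing R] {R₁ : Type*} [CommRing R₁] {R₂ : Type*} [CommRing R₂]
  {D : Type*} [CommRing D] [Algebra R D] {V : Type*} [AddCommGroup V] [Module D V] (ρ : V →ₗ[D] Ω[D⁄R])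
  {D₁ : Type*} [CommRing D₁] [Algebra R₁ D₁] {V₁ : Type*} [AddCommGroup V₁] [Module D₁ V₁]
  (ρ₁ : V₁ →ₗ[D₁] Ω[D₁⁄R₁])

/-- A map of data, semilinear over a map `x` of base rings. -/
structure SHom (x : R →+* R₁) where
  /-- the map of rings -/
  η : D →+* D₁
  η_alg : ∀ r, η (algebraMap R D r) = algebraMap R₁ D₁ (x r)
  /-- the semilinear map of modules -/
  ηV : V →+ V₁
  map_smul : ∀ (d : D) (v : V), ηV (d • v) = η d • ηV v
  compat : ∀ (v : V) (y : D), ρ v = KaehlerDifferential.D R D y →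
    ρ₁ (ηV v) = KaehlerDifferential.D R₁ D₁ (η y)

end

namespace SHom

variable {R : Type*} [CommRing R] {R₁ : Type*} [CommRing R₁] {R₂ : Type*} [CommRing R₂]
  {D : Type*} [CommRing D] [Algebra R D] {V : Type*} [AddCommGroup V] [Module D V] {ρ : V →ₗ[D] Ω[D⁄R]}
  {D₁ : Type*} [CommRing D₁] [Algebra R₁ D₁] {V₁ : Type*} [AddCommGroup V₁] [Module D₁ V₁]
  {ρ₁ : V₁ →ₗ[D₁] Ω[D₁⁄R₁]}
  {D₂ : Type*} [CommRing D₂] [Algebra R₂ D₂] {V₂ : Type*} [AddCommGroup V₂] [Module D₂ V₂]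
  {ρ₂ : V₂ →ₗ[D₂] Ω[D₂⁄R₂]}

/-- The identity. -/
def id (ρ : V →ₗ[D] Ω[D⁄R]) : SHom ρ ρ (RingHom.id R) where
  η := RingHom.id D
  η_alg _ := rfl
  ηV := AddMonoidHom.id V
  map_smul _ _ := rfl
  compat _ _ h := h

/-- Composition. -/
def comp {x : R →+* R₁} {y : R₁ →+* R₂} (g : SHom ρ₁ ρ₂ y) (h : SHom ρ ρ₁ x) : SHom ρ ρ₂ (y.comp x) where
  η := g.η.comp h.η
  η_alg r := by rw [RingHom.comp_apply, h.η_alg, g.η_alg]; rfl
  ηV := g.ηV.comp h.ηV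
  map_smul d v := by simp [h.map_smul, g.map_smul]
  compat v x hx := g.compat _ _ (h.compat _ _ hx)

@[simp] theorem id_η : (id ρ).η = RingHom.id D := rfl
@[simp] theorem id_ηV : (id ρ).ηV = AddMonoidHom.id V := rfl
@[simp] theorem comp_η {x : R →+* R₁} {y : R₁ →+* R₂} (g : SHom ρ₁ ρ₂ y) (h : SHom ρ ρ₁ x) :
    (g.comp h).η = g.η.comp h.η := rfl
@[simp] theorem comp_ηV {x : R →+* R₁} {y : R₁ →+* R₂} (g : SHom ρ₁ ρ₂ y) (h : SHom ρ ρ₁ x) :
    (g.comp h).ηV = g.ηV.comp h.ηV := rfl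

/-- A map of data over one ring. -/
def ofDatumHom {D' : Type*} [CommRing D'] [Algebra R D'] {V' : Type*} [AddCommGroup V'] [Module D' V']
    {ρ' : V' →ₗ[D'] Ω[D'⁄R]} (h : DatumHom ρ ρ') : SHom ρ ρ' (RingHom.id R) where
  η := h.η
  η_alg r := h.η.commutes r
  ηV := h.ηV
  map_smul := h.map_smul
  compat := h.compat

end SHom

section modelHom

variable {R : Type*} [CommRing R] {R₁ : Type*} [CommRing R₁] {R₂ : Type*} [CommRing R₂]
  {D : Type*} [CommRing D] [Algebra R D] {V : Type*} [AddCommGroup V] [Module D V] {ρ : V →ₗ[D] Ω[D⁄R]}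
  {D₁ : Type*} [CommRing D₁] [Algebra R₁ D₁] {V₁ : Type*} [AddCommGroup V₁] [Module D₁ V₁]
  {ρ₁ : V₁ →ₗ[D₁] Ω[D₁⁄R₁]}
  {D₂ : Type*} [CommRing D₂] [Algebra R₂ D₂] {V₂ : Type*} [AddCommGroup V₂] [Module D₂ V₂]
  {ρ₂ : V₂ →ₗ[D₂] Ω[D₂⁄R₂]}
  {m : Model R D V ρ} {m₁ : Model R₁ D₁ V₁ ρ₁} {m₂ : Model R₂ D₂ V₂ ρ₂} {x : R →+* R₁} {y : R₁ →+* R₂}

/-- A ring map of polynomial rings over a semilinear map of data. -/
structure IsSHom (h : SHom ρ ρ₁ x) (φ : m.PP →+* m₁.PP) : Prop where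
  map_C : ∀ r, φ (C r) = C (x r)
  f_eq : ∀ z, m₁.f (φ z) = h.η (m.f z)
  dV_eq : ∀ z, m₁.dV (φ z) = h.ηV (m.dV z)

theorem isSHom_of_X (h : SHom ρ ρ₁ x) (φ : m.PP →+* m₁.PP) (hC : ∀ r, φ (C r) = C (x r))
    (h1 : ∀ i, m₁.f (φ (X i)) = h.η (m.f (X i))) (h2 : ∀ i, m₁.dV (φ (X i)) = h.ηV (m.b i)) :
    IsSHom h φ := by
  have hf : ∀ z, m₁.f (φ z) = h.η (m.f z) := fun z => by
    have : (m₁.f : m₁.PP →+* D₁).comp φ = h.η.comp (m.f : m.PP →+* D) := by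
      refine MvPolynomial.ringHom_ext (fun r => ?_) (fun i => h1 i)
      change m₁.f (φ (C r)) = h.η (m.f (C r))
      rw [hC, ← MvPolynomial.algebraMap_eq, ← MvPolynomial.algebraMap_eq, AlgHom.commutes, AlgHom.commutes, h.η_alg]
    exact DFunLike.congr_fun this z
  refine ⟨hC, hf, fun z => ?_⟩
  induction z using MvPolynomial.induction_on with
  | C a =>
    rw [Model.dV_C, map_zero, hC, Model.dV_C]
  | add p q hp hq => rw [map_add, map_add, hp, hq, map_add, map_add]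
  | mul_X p j hp =>
    rw [map_mul, Model.dV_mul, hf, hf, hp, h2, Model.dV_mul, map_add, h.map_smul, h.map_smul, Model.dV_X]

theorem IsSHom.id (m : Model R D V ρ) : IsSHom (m := m) (m₁ := m) (SHom.id ρ) (RingHom.id m.PP) :=
  ⟨fun _ => rfl, fun _ => rfl, fun _ => rfl⟩

theorem IsSHom.comp {g : SHom ρ₁ ρ₂ y} {h : SHom ρ ρ₁ x} {ψ : m₁.PP →+* m₂.PP}
    {φ : m.PP →+* m₁.PP} (hψ : IsSHom g ψ) (hφ : IsSHom h φ) : IsSHom (g.comp h) (ψ.comp φ) :=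
  ⟨fun r => by simp [hψ.map_C, hφ.map_C], fun z => by simp [hψ.f_eq, hφ.f_eq], fun z => by simp [hψ.dV_eq, hφ.dV_eq]⟩

/-- A map of models over one ring. -/
theorem IsSHom.ofModelHom {D' : Type*} [CommRing D'] [Algebra R D'] {V' : Type*} [AddCommGroup V'] [Module D' V']
    {ρ' : V' →ₗ[D'] Ω[D'⁄R]} {m' : Model R D' V' ρ'} {h : DatumHom ρ ρ'} {φ : m.PP →ₐ[R] m'.PP}
    (hφ : IsModelHom h φ) : IsSHom (SHom.ofDatumHom h) (φ : m.PP →+* m'.PP) :=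
  ⟨fun r => φ.commutes r, hφ.f_eq, hφ.dV_eq⟩

/-- Every semilinear map of data lifts to the models. -/
theorem exists_sHom (m : Model R D V ρ) (m₁ : Model R₁ D₁ V₁ ρ₁) (h : SHom ρ ρ₁ x) :
    ∃ φ : m.PP →+* m₁.PP, IsSHom h φ := by
  have : ∀ i, ∃ z : m₁.PP, m₁.f z = h.η (m.f (X i)) ∧ m₁.dV z = h.ηV (m.b i) := fun i =>
    m₁.exists_of_rho _ _ (h.compat _ _ (m.hb i))
  choose y hy1 hy2 using this
  refine ⟨MvPolynomial.eval₂Hom (C.comp x) y, isSHom_of_X h _ (fun r => ?_) (fun i => ?_) fun i => ?_⟩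
  · rw [coe_eval₂Hom, eval₂_C]; rfl
  · rw [coe_eval₂Hom, eval₂_X]; exact hy1 i
  · rw [coe_eval₂Hom, eval₂_X]; exact hy2 i

namespace IsSHom

variable {h : SHom ρ ρ₁ x} {φ ψ : m.PP →+* m₁.PP}

theorem map_J (hφ : IsSHom h φ) {z : m.PP} (hz : z ∈ m.J) : φ z ∈ m₁.J := by
  rw [Model.mem_J, hφ.f_eq, m.mem_J.1 hz, map_zero]

theorem map_J2 (hφ : IsSHom h φ) {z : m.PP} (hz : z ∈ m.J2) : φ z ∈ m₁.J2 :=
  ⟨by rw [hφ.f_eq, hz.1, map_zero], by rw [hφ.dV_eq, hz.2, map_zero]⟩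

/-- A map of models respects the filtrations. -/
theorem map_Fil_le (hφ : IsSHom h φ) (n : ℕ) : m.Fil n ≤ (m₁.Fil n).comap φ := by
  refine m.Fil_le fun a b hab => ?_
  rw [← Ideal.map_le_iff_le_comap, Ideal.map_mul, Ideal.map_pow, Ideal.map_pow]
  refine (Ideal.mul_mono (Ideal.pow_right_mono ?_ a) (Ideal.pow_right_mono ?_ b)).trans (m₁.le_Fil hab)
  · rw [Ideal.map_le_iff_le_comap]; exact fun z hz => hφ.map_J hz
  · rw [Ideal.map_le_iff_le_comap]; exact fun z hz => hφ.map_J2 hz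

theorem map_Fil (hφ : IsSHom h φ) {n : ℕ} {z : m.PP} (hz : z ∈ m.Fil n) : φ z ∈ m₁.Fil n :=
  hφ.map_Fil_le n hz

/-- A lift factors through the base change of the polynomial ring: comparison with a linear situation.
Two lifts of the same semilinear map of data differ by `Fil (p + 1)` on `Fil p`. -/
theorem sub_mem_Fil_succ (hφ : IsSHom h φ) (hψ : IsSHom h ψ) (p : ℕ) {z : m.PP} (hz : z ∈ m.Fil p) :
    φ z - ψ z ∈ m₁.Fil (p + 1) := by
  have h2 : ∀ z, φ z - ψ z ∈ m₁.Fil 2 := fun z => by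
    rw [Model.Fil_two]
    exact ⟨by rw [map_sub, hφ.f_eq, hψ.f_eq, sub_self], by rw [map_sub, hφ.dV_eq, hψ.dV_eq, sub_self]⟩
  have hC : ∀ a, φ (C a) = ψ (C a) := fun a => by rw [hφ.map_C, hψ.map_C]
  have hJ : ∀ z ∈ m.J, φ z - ψ z ∈ m₁.Fil (1 + 1) := fun z _ => h2 z
  have hJ2 : ∀ z ∈ m.J2, φ z - ψ z ∈ m₁.Fil (2 + 1) := by
    intro z hz
    have h1 := (taylorS φ ψ hC _ (fun i => h2 (X i)) z).2
    have h3 : ∑ i, (φ (X i) - ψ (X i)) * ψ (pderiv i z) ∈ m₁.Fil (2 + 1) := by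
      refine Ideal.sum_mem _ fun i _ => ?_
      have h4 : ψ (pderiv i z) ∈ m₁.Fil 1 := by
        rw [Model.Fil_one]; exact hψ.map_J ((m.mem_J2_iff.1 hz).2 i)
      exact m₁.mul_mem_Fil (h2 (X i)) h4
    have h4 : φ z - ψ z - ∑ i, (φ (X i) - ψ (X i)) * ψ (pderiv i z) ∈ m₁.Fil (2 + 1) :=
      m₁.Fil_antitone (by omega) (m₁.Fil_pow_le 2 2 h1)
    have := (m₁.Fil (2 + 1)).add_mem h4 h3
    rwa [sub_add_cancel] at this
  have hmul : ∀ (a b : ℕ) (x y : m.PP), x ∈ m.Fil a → y ∈ m.Fil b → φ x - ψ x ∈ m₁.Fil (a + 1) →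
      φ y - ψ y ∈ m₁.Fil (b + 1) → φ (x * y) - ψ (x * y) ∈ m₁.Fil (a + b + 1) := by
    intro a b x y hx hy h1 h2
    have e : φ (x * y) - ψ (x * y) = (φ x - ψ x) * φ y + ψ x * (φ y - ψ y) := by
      rw [map_mul, map_mul]; ring
    rw [e]
    refine Ideal.add_mem _ ?_ ?_
    · have := m₁.mul_mem_Fil h1 (hφ.map_Fil hy)
      rwa [show a + 1 + b = a + b + 1 by omega] at this
    · have := m₁.mul_mem_Fil (hψ.map_Fil hx) h2
      rwa [show a + (b + 1) = a + b + 1 by omega] at this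
  have hpow : ∀ (I : Ideal m.PP) (c : ℕ), I ≤ m.Fil c → (∀ z ∈ I, φ z - ψ z ∈ m₁.Fil (c + 1)) →
      ∀ k, ∀ z ∈ I ^ k, φ z - ψ z ∈ m₁.Fil (k * c + 1) := by
    intro I c hIc hI k
    induction k with
    | zero =>
      intro z _
      rw [zero_mul, zero_add]
      exact m₁.Fil_antitone (Nat.le_succ 1) (h2 z)
    | succ k ih =>
      intro z hz
      rw [pow_succ] at hz
      refine Submodule.mul_induction_on hz (fun x hx y hy => ?_) fun x y hx hy => ?_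
      · have hx' : x ∈ m.Fil (k * c) := m.Fil_pow_le c k (Ideal.pow_right_mono hIc k hx)
        have := hmul (k * c) c x y hx' (hIc hy) (ih x hx) (hI y hy)
        rwa [show k * c + c + 1 = (k + 1) * c + 1 by ring] at this
      · rw [map_add, map_add, add_sub_add_comm]
        exact Ideal.add_mem _ hx hy
  have hgen : ∀ a b, p ≤ a + 2 * b → ∀ z ∈ m.J ^ a * m.J2 ^ b, φ z - ψ z ∈ m₁.Fil (p + 1) := by
    intro a b hab z hz
    refine Submodule.mul_induction_on hz (fun x hx y hy => ?_) fun x y hx hy => ?_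
    · have hx1 := hpow m.J 1 (le_of_eq m.Fil_one.symm) hJ a x hx
      have hy1 := hpow m.J2 2 (le_of_eq m.Fil_two.symm) hJ2 b y hy
      have hx2 : x ∈ m.Fil (a * 1) := m.Fil_pow_le 1 a (by rwa [Model.Fil_one])
      have hy2 : y ∈ m.Fil (b * 2) := m.Fil_pow_le 2 b (by rwa [Model.Fil_two])
      exact m₁.Fil_antitone (by omega) (hmul _ _ x y hx2 hy2 hx1 hy1)
    · rw [map_add, map_add, add_sub_add_comm]
      exact Ideal.add_mem _ hx hy
  refine Submodule.iSup_induction (fun a => ⨆ (b : ℕ) (_ : p ≤ a + 2 * b), m.J ^ a * m.J2 ^ b)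
    (motive := fun z => φ z - ψ z ∈ m₁.Fil (p + 1)) hz (fun a x hx => ?_) (by simp) ?_
  · refine Submodule.iSup_induction (fun b => ⨆ (_ : p ≤ a + 2 * b), m.J ^ a * m.J2 ^ b)
      (motive := fun z => φ z - ψ z ∈ m₁.Fil (p + 1)) hx (fun b y hy => ?_) (by simp) ?_
    · by_cases hab : p ≤ a + 2 * b
      · simp only [hab, iSup_pos] at hy
        exact hgen a b hab y hy
      · simp only [hab, iSup_neg, not_false_eq_true, Submodule.mem_bot] at hy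
        simp [hy]
    · intro x y hx hy
      rw [map_add, map_add, add_sub_add_comm]
      exact Ideal.add_mem _ hx hy
  · intro x y hx hy
    rw [map_add, map_add, add_sub_add_comm]
    exact Ideal.add_mem _ hx hy

/-- The map on graded pieces given by a lift. -/
noncomputable def grMap (hφ : IsSHom h φ) (n : ℕ) : m.gr n →+ m₁.gr n :=
  QuotientAddGroup.map _ _
    ({ toFun := fun z => ⟨φ z, hφ.map_Fil z.2⟩
       map_zero' := Subtype.ext (map_zero φ)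
       map_add' := fun a b => Subtype.ext (map_add φ (a : m.PP) b) } : m.Fil n →+ m₁.Fil n)
    (fun _ hz => hφ.map_Fil hz)

theorem grMap_toGr (hφ : IsSHom h φ) (n : ℕ)
    (z : m.Fil n) : hφ.grMap n (m.toGr n z) = m₁.toGr n ⟨φ z, hφ.map_Fil z.2⟩ := rfl

end IsSHom

/-- THE map on graded pieces of a semilinear map of data. -/
noncomputable def SHom.gr (h : SHom ρ ρ₁ x) (m : Model R D V ρ) (m₁ : Model R₁ D₁ V₁ ρ₁) (n : ℕ) :
    m.gr n →+ m₁.gr n :=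
  (exists_sHom m m₁ h).choose_spec.grMap n

theorem SHom.gr_toGr {h : SHom ρ ρ₁ x} {φ : m.PP →+* m₁.PP} (hφ : IsSHom h φ) (n : ℕ) (z : m.Fil n) :
    h.gr m m₁ n (m.toGr n z) = m₁.toGr n ⟨φ z, hφ.map_Fil z.2⟩ := by
  rw [SHom.gr, IsSHom.grMap_toGr, Model.toGr_eq_iff]
  exact (exists_sHom m m₁ h).choose_spec.sub_mem_Fil_succ hφ n z.2

theorem SHom.gr_eq {h : SHom ρ ρ₁ x} {φ : m.PP →+* m₁.PP} (hφ : IsSHom h φ) (n : ℕ) :
    h.gr m m₁ n = hφ.grMap n := by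
  ext x
  obtain ⟨z, rfl⟩ := m.toGr_surjective n x
  rw [SHom.gr_toGr hφ, hφ.grMap_toGr]

theorem SHom.gr_smul (h : SHom ρ ρ₁ x) (n : ℕ) (d : D) (a : m.gr n) :
    h.gr m m₁ n (d • a) = h.η d • h.gr m m₁ n a := by
  obtain ⟨φ, hφ⟩ := exists_sHom m m₁ h
  obtain ⟨b, rfl⟩ := m.surj d
  obtain ⟨z, rfl⟩ := m.toGr_surjective n a
  rw [Model.f_smul_toGr, SHom.gr_toGr hφ, SHom.gr_toGr hφ, ← hφ.f_eq, Model.f_smul_toGr]
  congr 1
  exact Subtype.ext (map_mul φ b z)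

/-- the map on graded pieces only depends on `η` and `ηV`. -/
theorem SHom.gr_congr {x' : R →+* R₁} (hx : x = x') (h : SHom ρ ρ₁ x) (h' : SHom ρ ρ₁ x') (e1 : ∀ d, h.η d = h'.η d)
    (e2 : ∀ v, h.ηV v = h'.ηV v) (n : ℕ) (a : m.gr n) : h.gr m m₁ n a = h'.gr m m₁ n a := by
  subst hx
  have : h = h' := by
    cases h; cases h'
    congr 1
    · exact RingHom.ext e1
    · exact AddMonoidHom.ext e2
  rw [this]

@[simp] theorem SHom.gr_id (m : Model R D V ρ) (n : ℕ) (a : m.gr n) : (SHom.id ρ).gr m m n a = a := by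
  obtain ⟨z, rfl⟩ := m.toGr_surjective n a
  rw [SHom.gr_toGr (IsSHom.id m)]
  rfl

theorem SHom.gr_comp (g : SHom ρ₁ ρ₂ y) (h : SHom ρ ρ₁ x) (m : Model R D V ρ) (m₁ : Model R₁ D₁ V₁ ρ₁)
    (m₂ : Model R₂ D₂ V₂ ρ₂) (n : ℕ) (a : m.gr n) :
    (g.comp h).gr m m₂ n a = g.gr m₁ m₂ n (h.gr m m₁ n a) := by
  obtain ⟨φ, hφ⟩ := exists_sHom m m₁ h
  obtain ⟨ψ, hψ⟩ := exists_sHom m₁ m₂ g
  obtain ⟨z, rfl⟩ := m.toGr_surjective n a
  rw [SHom.gr_toGr hφ, SHom.gr_toGr hψ, SHom.gr_toGr (hψ.comp hφ)]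
  rfl

/-- Multiplicativity. -/
theorem SHom.gr_mul (h : SHom ρ ρ₁ x) {a b : ℕ} (u : m.Fil a) (v : m.Fil b) (u₁ : m₁.Fil a) (v₁ : m₁.Fil b)
    (hu : h.gr m m₁ a (m.toGr a u) = m₁.toGr a u₁) (hv : h.gr m m₁ b (m.toGr b v) = m₁.toGr b v₁) :
    h.gr m m₁ (a + b) (m.toGr (a + b) ⟨u.1 * v.1, m.mul_mem_Fil u.2 v.2⟩) =
      m₁.toGr (a + b) ⟨u₁.1 * v₁.1, m₁.mul_mem_Fil u₁.2 v₁.2⟩ := by
  obtain ⟨φ, hφ⟩ := exists_sHom m m₁ h
  rw [SHom.gr_toGr hφ, Model.toGr_eq_iff] at hu hv ⊢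
  change φ u.1 - u₁.1 ∈ _ at hu
  change φ v.1 - v₁.1 ∈ _ at hv
  change φ (u.1 * v.1) - u₁.1 * v₁.1 ∈ _
  have e : φ (u.1 * v.1) - u₁.1 * v₁.1 = (φ u.1 - u₁.1) * φ v.1 + u₁.1 * (φ v.1 - v₁.1) := by
    rw [map_mul]; ring
  rw [e]
  refine Ideal.add_mem _ ?_ ?_
  · have := m₁.mul_mem_Fil hu (hφ.map_Fil v.2)
    rwa [show a + 1 + b = a + b + 1 by omega] at this
  · have := m₁.mul_mem_Fil u₁.2 hv
    rwa [show a + (b + 1) = a + b + 1 by omega] at this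

end modelHom

end Groth.Agent.ResProp.EF.K341
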